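import Cfsg.Agent.Lib.Chev.HomSylow.Main

/-!
Semisimple elements over an extension field: tori, the Weyl element of a conjugating element, and centralisers
of families of torus elements.
-/

set_option autoImplicit false
set_option linter.unusedSectionVars false
set_option maxHeartbeats 1000000

namespace Cfsg.Agent.Chev.F4Graph

open Cfsg.Lie Cfsg.Agent.Chev Cfsg.Agent.Chev.CyclTorus
open scoped Matrix

theorem exists_cyclo_eigen {n : ℕ} {M : Matrix (Fin n) (Fin n) ℤ} {o : ℕ} {r : ℕ} [Fact r.Prime] (hro : ¬ r ∣ o)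
    {a : ZMod r} {e : ℕ} (ha : IsPrimitiveRoot a e) {v : Fin n → ZMod r} (hv : v ≠ 0)
    (hMv : M.map (Int.castRingHom (ZMod r)) *ᵥ v = a • v) {L : List ℕ} (hL : ∀ d ∈ L, d ∣ o)
    (hch : M.charpoly = (L.map fun d => Polynomial.cyclotomic d ℤ).prod) : e ∈ L := by
  classical
  set Mr := M.map (Int.castRingHom (ZMod r))
  have h0 : (Matrix.scalar (Fin n) a - Mr).det = 0 :=
    Matrix.exists_mulVec_eq_zero_iff.1 ⟨v, hv, by
      rw [Matrix.sub_mulVec, Matrix.scalar_apply, ← Matrix.smul_one_eq_diagonal, Matrix.smul_mulVec,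
        Matrix.one_mulVec, hMv, sub_self]⟩
  rw [← Matrix.eval_charpoly, Matrix.charpoly_map, hch] at h0
  clear hch
  induction L with
  | nil => simp at h0
  | cons d L ih =>
    rw [List.map_cons, List.prod_cons, Polynomial.map_mul, Polynomial.eval_mul, mul_eq_zero,
      Polynomial.map_cyclotomic_int] at h0
    rcases h0 with h0 | h0
    · haveI : NeZero (d : ZMod r) :=
        ⟨fun e0 => hro (((ZMod.natCast_eq_zero_iff _ _).1 e0).trans (hL d List.mem_cons_self))⟩
      rw [(ha.unique (Polynomial.isRoot_cyclotomic_iff.1 h0) : e = d)]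
      exact List.mem_cons_self
    · exact List.mem_cons_of_mem _ (ih (fun x hx => hL x (List.mem_cons_of_mem _ hx)) h0)

/-- An element of prime-power order goes into a subgroup of index prime to it. -/
theorem conj_into {G : Type*} [Group G] [Finite G] {r : ℕ} [Fact r.Prime] {T : Subgroup G} (hT : ¬ r ∣ T.index)
    {S : Subgroup G} (hS : IsPGroup r S) : ∃ z : G, ∀ x ∈ S, z * x * z⁻¹ ∈ T := by
  obtain ⟨S0⟩ : Nonempty (Sylow r ↥T) := inferInstance
  have hS1 : IsPGroup r ((S0 : Subgroup ↥T).map T.subtype) := S0.isPGroup'.map _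
  have hS1i : ¬ r ∣ ((S0 : Subgroup ↥T).map T.subtype).index := by
    rw [Subgroup.index_map_subtype]
    exact fun hd => ((Fact.out : r.Prime).dvd_mul.1 hd).elim S0.not_dvd_index hT
  obtain ⟨S2, hS2⟩ := hS.exists_le_sylow
  obtain ⟨z, hz⟩ := MulAction.exists_smul_eq G S2 (hS1.toSylow hS1i)
  refine ⟨z, fun x hx => ?_⟩
  have h1 : z * x * z⁻¹ ∈ ((z • S2 : Sylow r G) : Subgroup G) := ⟨x, hS2 hx, rfl⟩
  rw [hz] at h1
  obtain ⟨w, -, hw⟩ := h1
  rw [← hw]
  exact w.2

/-- The characters satisfy the Frobenius relation of a Weyl element. -/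
def Rel {L : Type*} [Field L] (P : Pk) (l : List ℕ) (q : ℕ) (c : Fin P.rank → Lˣ) : Prop :=
  ∀ s < P.nroots, hchar P c (wl P l s) = hchar P c s ^ q

theorem exists_zhom {L : Type*} [Field L] {r : ℕ} [NeZero r] {ζ : Lˣ} (hζ : IsPrimitiveRoot ζ r) :
    ∃ Z : Multiplicative (ZMod r) →* Lˣ, Function.Injective Z ∧
      ∀ u : Lˣ, u ^ r = 1 → ∃ f : ZMod r, u = Z (Multiplicative.ofAdd f) := by
  let Zr : Multiplicative (ZMod r) →* Lˣ :=
    { toFun := fun v => ((Additive.toMul (hζ.zmodEquivZPowers v.toAdd) : Subgroup.zpowers ζ) : Lˣ)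
      map_one' := by simp
      map_mul' := fun a b => by simp }
  refine ⟨Zr, fun a b e => ?_, fun u hu => ?_⟩
  · have e1 : hζ.zmodEquivZPowers a.toAdd = hζ.zmodEquivZPowers b.toAdd := by
      apply Additive.toMul.injective
      exact Subtype.ext e
    exact Multiplicative.toAdd.injective (hζ.zmodEquivZPowers.injective e1)
  · have h2 : u ∈ Subgroup.zpowers ζ := by
      rw [hζ.zpowers_eq]
      exact hu
    refine ⟨hζ.zmodEquivZPowers.symm (Additive.ofMul ⟨_, h2⟩), ?_⟩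
    simp [Zr]

variable {D : ChevalleyDatum} {P : Pk} (h : Ok D P)
include h

/-- A Weyl element fixing vectors on which no root vanishes identically is trivial. -/
theorem stab_trivial {o : ℕ} (ho : 0 < o) {r : ℕ} [Fact r.Prime] (hro : ¬ r ∣ o) {m : ℕ}
    (v : Fin m → Fin P.rank → ZMod r) (hreg : ∀ β < P.nroots, ∃ j, dot P (v j) β ≠ 0)
    {l : List ℕ} (hl : WordOk P l) (hMo : WM P l ^ o = 1) (hfix : ∀ j, tr P l (v j) = v j) :
    ∀ α < P.nroots, wl P l α = α := by
  classical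
  set M := WM P l with hM
  let et : Fin m → Fin P.rank → ℤ := fun j i => (v j i).val
  let Ej : Fin m → Fin P.rank → ℤ := fun j => ∑ i ∈ Finset.range o, (M ^ i) *ᵥ (et j)
  have hEfix : ∀ j, M *ᵥ Ej j = Ej j := fun j => by
    simp only [Ej, Matrix.mulVec_sum, Matrix.mulVec_mulVec, ← pow_succ']
    apply add_right_cancel (b := (M ^ 0) *ᵥ (et j))
    rw [← Finset.sum_range_succ' (fun i => (M ^ i) *ᵥ (et j)), Finset.sum_range_succ, hMo, pow_zero]
  have hEr : ∀ j i, ((Ej j i : ℤ) : ZMod r) = (o : ZMod r) * v j i := by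
    intro j i
    have hj : ∀ k, ((((M ^ k) *ᵥ (et j)) i : ℤ) : ZMod r) = v j i := by
      intro k
      have h1 : ((M ^ k).map (Int.castRingHom (ZMod r))) *ᵥ (v j) = v j := by
        induction k with
        | zero => simp
        | succ k ih =>
          rw [pow_succ', Matrix.map_mul, ← Matrix.mulVec_mulVec, ih]
          exact hfix j
      have h2 := RingHom.map_mulVec (Int.castRingHom (ZMod r)) (M ^ k) (et j) i
      rw [show Int.castRingHom (ZMod r) ∘ et j = v j from funext fun i => by simp [et], h1] at h2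
      exact h2
    simp only [Ej, Finset.sum_apply, Int.cast_sum]
    rw [Finset.sum_congr rfl fun k _ => hj k, Finset.sum_const, Finset.card_range, nsmul_eq_mul]
  let p : ℕ → Polynomial ℤ := fun β => ∑ j : Fin m, Polynomial.C (dot P (Ej j) β) * Polynomial.X ^ (j : ℕ)
  have hp : ∀ β < P.nroots, p β ≠ 0 := by
    intro β hβ hp0
    obtain ⟨j, hj⟩ := hreg β hβ
    have h1 := congrArg (fun f => Polynomial.coeff f (j : ℕ)) hp0
    simp only [p, Polynomial.finsetSum_coeff, Polynomial.coeff_C_mul_X_pow, Polynomial.coeff_zero] at h1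
    rw [Finset.sum_eq_single j (fun b _ hb => if_neg fun e => hb (Fin.ext e.symm)) (by simp), if_pos rfl] at h1
    have h2 : ((dot P (Ej j) β : ℤ) : ZMod r) = (o : ZMod r) * dot P (v j) β := by
      rw [dot, dot, Int.cast_sum, Finset.mul_sum]
      refine Finset.sum_congr rfl fun k _ => ?_
      rw [Int.cast_mul, hEr]
      simp only [Int.cast_id]
      ring
    rw [h1, Int.cast_zero, eq_comm, mul_eq_zero] at h2
    exact h2.elim (fun e => hro ((ZMod.natCast_eq_zero_iff _ _).1 e)) hj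
  obtain ⟨N, hN⟩ : ∃ N : ℤ, (∏ β ∈ Finset.range P.nroots, p β).eval N ≠ 0 := by
    by_contra hall
    simp only [not_exists, not_not] at hall
    exact Finset.prod_ne_zero_iff.2 (fun β hβ => hp β (Finset.mem_range.1 hβ))
      (Polynomial.funext fun N => by rw [hall N, Polynomial.eval_zero])
  rw [Polynomial.eval_prod, Finset.prod_ne_zero_iff] at hN
  set E : Fin P.rank → ℤ := ∑ j : Fin m, N ^ (j : ℕ) • Ej j with hE
  refine regular_fix h _ E l hl (fun β hβ => ?_) le_rfl ?_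
  · have e : dot P E β = (p β).eval N := by
      simp only [p, Polynomial.eval_finsetSum, Polynomial.eval_mul, Polynomial.eval_C, Polynomial.eval_pow,
        Polynomial.eval_X, hE, dot, Finset.sum_apply, Pi.smul_apply, smul_eq_mul, Finset.mul_sum, Finset.sum_mul]
      rw [Finset.sum_comm]
      exact Finset.sum_congr rfl fun _ _ => Finset.sum_congr rfl fun _ _ => by ring
    rw [e]
    exact hN β (Finset.mem_range.2 hβ)
  · rw [tr, show M.map (Int.castRingHom ℤ) = M by ext; simp [Matrix.map_apply], hE, Matrix.mulVec_sum]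
    exact Finset.sum_congr rfl fun j _ => by rw [Matrix.mulVec_smul, hEfix]

variable {L : Type*} [Field L]

/-- The centraliser of a family of torus elements with trivial stabiliser is the torus. -/
theorem centralizer_of_family (hC : P.ckComm = true) {J : Type*} (c : J → Fin P.rank → Lˣ)
    (h1 : ∀ r < P.nroots, ∃ j, hchar P (c j) r ≠ 1)
    (hst : ∀ l, WordOk P l → (∀ j, ∀ r < P.nroots, hchar P (c j) (wl P l r) = hchar P (c j) r) →
      ∀ r < P.nroots, wl P l r = r)
    {g : GL D.Idx L} (hg : g ∈ D.group L) (hc : ∀ j, Commute g (h.hHom (c j))) : g ∈ D.diagonalSubgroup L := by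
  set t := fun j => h.hHom (F := L) (c j) with ht
  have htd : ∀ j, t j ∈ D.diagonalSubgroup L := fun j => h.mem_diagonal_iff.2 ⟨c j, rfl⟩
  have htn : ∀ j {v : GL D.Idx L}, v ∈ D.posUnipotent L → t j * v * (t j)⁻¹ ∈ D.posUnipotent L := fun j _ hv =>
    (Subgroup.mem_normalizer_iff.1 (h.diagonal_normalizes (htd j)) _).1 hv
  have hfix : ∀ v ∈ D.posUnipotent L, (∀ j, t j * v * (t j)⁻¹ = v) → v = 1 := by
    intro v hv e
    obtain ⟨x, rfl⟩ := h.pos_normal_form hC hv
    refine List.prod_eq_one fun y hy => ?_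
    obtain ⟨r, hr, rfl⟩ := List.mem_map.1 hy
    obtain ⟨j, hj⟩ := h1 r (P.isPos_iff.1 (mem_posL.1 hr)).2
    have e' : ((posL P).map fun r => h.xG r (hchar P (c j) r * x r)).prod = ((posL P).map fun r => h.xG r (x r)).prod := by
      rw [← e j, ← MulAut.conj_apply (t j), map_list_prod, List.map_map]
      refine congrArg List.prod (List.map_congr_left fun r hr => ?_)
      exact (h.hHom_xG (c j) (P.isPos_iff.1 (mem_posL.1 hr)).2 (x r)).symm
    have hz := h.prod_unique (posL P) posL_sorted (fun r hr => mem_posL.1 hr) _ _ e'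
    have : (hchar P (c j) r - 1) * x r = 0 := by linear_combination hz r hr
    rw [(mul_eq_zero.1 this).resolve_left (sub_ne_zero.2 hj), h.xG_zero]
  obtain ⟨b, hb, l, hl, u, hu, rfl⟩ := h.bruhat_exists hC hg
  set n := h.nW (F := L) l
  have hn0 : ∀ j, n * t j * n⁻¹ ∈ D.diagonalSubgroup L := fun j =>
    (Subgroup.mem_normalizer_iff.1 (h.nW_normalizer l hl) (t j)).1 (htd j)
  have hu' : u ∈ D.posUnipotent L := h.negS_le_pos l hu
  have key : ∀ j, ∀ x ∈ h.genR (F := L) (negS P l), t j * x * (t j)⁻¹ ∈ h.genR (negS P l) := by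
    intro j x hx
    induction hx using Subgroup.closure_induction with
    | mem x hx =>
      obtain ⟨r, s, hr, rfl⟩ := hx
      simp only [ht]
      rw [h.hHom_xG (c j) (P.isPos_iff.1 hr.1).2]
      exact h.xG_mem_genR hr _
    | one => simpa using one_mem _
    | mul x y hx hy ihx ihy =>
      rw [show t j * (x * y) * (t j)⁻¹ = (t j * x * (t j)⁻¹) * (t j * y * (t j)⁻¹) by group]
      exact mul_mem ihx ihy
    | inv x hx ih =>
      rw [show t j * x⁻¹ * (t j)⁻¹ = (t j * x * (t j)⁻¹)⁻¹ by group]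
      exact inv_mem ih
  have hfac : ∀ j, b = t j * b * (n * t j * n⁻¹)⁻¹ ∧ u = t j * u * (t j)⁻¹ := fun j => by
    have hb' : t j * b * (n * t j * n⁻¹)⁻¹ ∈ D.borelSubgroup L :=
      mul_mem (mul_mem (Subgroup.mem_sup_right (htd j)) hb) (inv_mem (Subgroup.mem_sup_right (hn0 j)))
    have e : b * (n * 1) * u = t j * b * (n * t j * n⁻¹)⁻¹ * (n * 1) * (t j * u * (t j)⁻¹) := by
      rw [show t j * b * (n * t j * n⁻¹)⁻¹ * (n * 1) * (t j * u * (t j)⁻¹) = t j * (b * n * u) * (t j)⁻¹ by group,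
        mul_one, ← (hc j).eq, mul_inv_cancel_right]
    exact h.bruhat_factor hl (one_mem _) hb hb' hu (key j u hu) e
  have hu1 : u = 1 := hfix u hu' fun j => (hfac j).2.symm
  subst hu1
  obtain ⟨v, hv, d, hd, rfl⟩ := h.mem_borel hb
  have hvf : ∀ j, t j * v * (t j)⁻¹ = v ∧ n * t j * n⁻¹ = t j := fun j => by
    have eb := (hfac j).1
    have hdc : t j * d = d * t j := by
      obtain ⟨cd, rfl⟩ := h.mem_diagonal_iff.1 hd
      simp only [ht]
      rw [← map_mul, ← map_mul, mul_comm]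
    have e2 : (t j * v * (t j)⁻¹)⁻¹ * v = d * (t j * (n * t j * n⁻¹)⁻¹) * d⁻¹ := by
      have : v * d = t j * v * (t j)⁻¹ * (d * (t j * (n * t j * n⁻¹)⁻¹)) := by
        rw [← mul_assoc d, ← hdc]
        conv_lhs => rw [eb]
        group
      rw [eq_mul_inv_iff_mul_eq, mul_assoc, this]
      group
    have h0 : (t j * v * (t j)⁻¹)⁻¹ * v ∈ D.posUnipotent L ⊓ D.diagonalSubgroup L :=
      Subgroup.mem_inf.2 ⟨mul_mem (inv_mem (htn j hv)) hv,
        e2 ▸ mul_mem (mul_mem hd (mul_mem (htd j) (inv_mem (hn0 j)))) (inv_mem hd)⟩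
    rw [h.pos_inf_diagonal, Subgroup.mem_bot] at h0
    refine ⟨inv_mul_eq_one.1 h0, ?_⟩
    have h3 := e2.symm.trans h0
    rw [conj_eq_one_iff, mul_inv_eq_one] at h3
    exact h3.symm
  have hv1 : v = 1 := hfix v hv fun j => (hvf j).1
  subst hv1
  have hperm : ∀ r < P.nroots, wl P l r = r := hst l hl fun j r hr =>
    char_wl h hl (hvf j).2 hr
  rw [one_mul, mul_one]
  exact mul_mem hd (h.nW_mem_diagonal hl hperm)

/-- The Weyl element of an element carrying the torus to an `F`-rational one. -/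
theorem exists_weyl (hC : P.ckComm = true) (σ : L →+* L) {q : ℕ}
    (hσh : ∀ c : Fin P.rank → Lˣ, gmap D σ (h.hHom c) = h.hHom (c ^ q)) {y : GL D.Idx L} (hy : y ∈ D.group L) :
    ∃ l, WordOk P l ∧
      (∀ c, gmap D σ (y * h.hHom c * y⁻¹) = y * h.hHom c * y⁻¹ → Rel P l q c) ∧
      ∀ (J : Type) (c : J → Fin P.rank → Lˣ),
        (∀ j, gmap D σ (y * h.hHom (c j) * y⁻¹) = y * h.hHom (c j) * y⁻¹) →
        (∀ g ∈ D.group L, (∀ j, Commute g (h.hHom (c j))) → g ∈ D.diagonalSubgroup L) →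
        ∀ c', Rel P l q c' → gmap D σ (y * h.hHom c' * y⁻¹) = y * h.hHom c' * y⁻¹ := by
  set n' := y⁻¹ * gmap D σ y with hn'
  have hn'G : n' ∈ D.group L := mul_mem (inv_mem hy) (h.map_group_le σ ⟨y, hy, rfl⟩)
  obtain ⟨b, hb, l, hl, u, hu, hbnu⟩ := h.bruhat_exists hC hn'G
  have hpow : ∀ (c : Fin P.rank → Lˣ) (s : ℕ), hchar P (c ^ q) s = hchar P c s ^ q := fun c s => by
    simp only [hchar, ← Finset.prod_pow, Pi.pow_apply, Units.val_pow_eq_pow_val]
    exact Finset.prod_congr rfl fun i _ => by rw [← zpow_natCast, ← zpow_natCast, zpow_comm]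
  have hrel : ∀ c, gmap D σ (y * h.hHom c * y⁻¹) = y * h.hHom c * y⁻¹ →
      n' * h.hHom (c ^ q) * n'⁻¹ = h.hHom c ∧ h.nW l * h.hHom (c ^ q) * (h.nW l)⁻¹ = h.hHom c := by
    intro c h1
    have h2 : n' * h.hHom (c ^ q) * n'⁻¹ = h.hHom c := by
      rw [map_mul, map_mul, map_inv, hσh] at h1
      rw [hn', show y⁻¹ * gmap D σ y * h.hHom (c ^ q) * (y⁻¹ * gmap D σ y)⁻¹ =
        y⁻¹ * (gmap D σ y * h.hHom (c ^ q) * (gmap D σ y)⁻¹) * y by group, h1]
      group
    exact ⟨h2, HomSylow.weyl_conj h hl hb hu (h.mem_diagonal_iff.2 ⟨c, rfl⟩) (h.mem_diagonal_iff.2 ⟨c ^ q, rfl⟩)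
      (hbnu ▸ h2)⟩
  refine ⟨l, hl, fun c hc s hs => ?_, fun J c hfix hcent c' hc' => ?_⟩
  · rw [char_wl h hl (hrel c hc).2 hs, hpow]
  have hd : n' * (h.nW (F := L) l)⁻¹ ∈ D.diagonalSubgroup L :=
    hcent _ (mul_mem hn'G (inv_mem (h.monomial_le_group (h.nW_mem l hl)))) fun j => by
      obtain ⟨e1, e2⟩ := hrel (c j) (hfix j)
      show n' * (h.nW l)⁻¹ * h.hHom (c j) = h.hHom (c j) * (n' * (h.nW l)⁻¹)
      nth_rewrite 1 [← e2]
      nth_rewrite 1 [← e1]
      group
  obtain ⟨cd, hcd⟩ := h.mem_diagonal_iff.1 hd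
  have hnd : h.nW l * h.hHom (c' ^ q) * (h.nW l)⁻¹ ∈ D.diagonalSubgroup L :=
    (Subgroup.mem_normalizer_iff.1 (h.nW_normalizer l hl) _).1 (h.mem_diagonal_iff.2 ⟨_, rfl⟩)
  obtain ⟨c'', hc''⟩ := h.mem_diagonal_iff.1 hnd
  have e3 : h.nW l * h.hHom (c' ^ q) * (h.nW l)⁻¹ = h.hHom c' := by
    rw [← hc'']
    refine hHom_ext_char h fun s hs => ?_
    have hl' : WordOk P l.reverse := fun x hx => hl x (List.mem_reverse.1 hx)
    set s' := wl P l.reverse s with hs'
    have hs'' : s' < P.nroots := h.wl_lt _ hl' s hs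
    have es : wl P l s' = s := by
      have := h.wl_reverse l.reverse hl' s hs
      rwa [List.reverse_reverse] at this
    rw [← es, char_wl h hl hc''.symm hs'', hc' s' hs'', hpow]
  rw [map_mul, map_mul, map_inv, hσh, show gmap D σ y = y * (n' * (h.nW l)⁻¹ * h.nW l) by rw [hn']; group]
  rw [show y * (n' * (h.nW l)⁻¹ * h.nW l) * h.hHom (c' ^ q) * (y * (n' * (h.nW l)⁻¹ * h.nW l))⁻¹ =
    y * (n' * (h.nW l)⁻¹ * (h.nW l * h.hHom (c' ^ q) * (h.nW l)⁻¹) * (n' * (h.nW l)⁻¹)⁻¹) * y⁻¹ by group, e3, ← hcd,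
    ← map_mul, mul_comm cd, map_mul, mul_inv_cancel_right]

/-- Characters of exponent `r` have exponents. -/
theorem exists_exponent {r : ℕ} (Z : Multiplicative (ZMod r) →* Lˣ)
    (hZ : ∀ u : Lˣ, u ^ r = 1 → ∃ f : ZMod r, u = Z (Multiplicative.ofAdd f))
    (c : Fin P.rank → Lˣ) (hc : ∀ s < P.nroots, hchar P c s ^ r = 1) :
    ∃ f : Fin P.rank → ZMod r, ∀ s < P.nroots, hchar P c s = (Z (Multiplicative.ofAdd (dot P f s)) : L) := by
  choose f hf using fun k : Fin P.rank => hZ (simChar P c k) (Units.ext (by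
    rw [Units.val_pow_eq_pow_val, simChar, coe_prod_zpow, Units.val_one]; exact hc _ (h.sim_lt k.isLt)))
  exact ⟨f, fun s hs => hchar_dot h Z c f hf hs⟩

theorem rel_iff_tr {r : ℕ} {Z : Multiplicative (ZMod r) →* Lˣ} (hZ : Function.Injective Z) {l : List ℕ}
    (hl : WordOk P l) {q : ℕ} {c : Fin P.rank → Lˣ} {f : Fin P.rank → ZMod r}
    (hf : ∀ s < P.nroots, hchar P c s = (Z (Multiplicative.ofAdd (dot P f s)) : L)) :
    Rel P l q c ↔ tr P l f = (q : ZMod r) • f := by
  constructor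
  · intro e
    funext k
    refine Multiplicative.ofAdd.injective (hZ (Units.ext ?_))
    rw [tr_apply, ← hf _ (h.wl_lt l hl _ (h.sim_lt k.isLt)), e _ (h.sim_lt k.isLt), hf _ (h.sim_lt k.isLt),
      dot_sim h f k, ← Units.val_pow_eq_pow_val, ← map_pow, ← ofAdd_nsmul]
    simp [nsmul_eq_mul]
  · intro e s hs
    rw [hf _ (h.wl_lt l hl s hs), hf s hs, dot_wl h hl f hs, e, ← Units.val_pow_eq_pow_val, ← map_pow,
      ← ofAdd_nsmul]
    congr 3
    rw [nsmul_eq_mul, dot, dot, Finset.mul_sum]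
    exact Finset.sum_congr rfl fun j _ => by rw [Pi.smul_apply, smul_eq_mul]; ring

end Cfsg.Agent.Chev.F4Graph
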