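import Cfsg.Agent.Lib.Chev.F4Graph.Semi

/-!
The prime graph of `F₄(2ⁿ)`.
-/

set_option autoImplicit false
set_option maxRecDepth 20000
set_option maxHeartbeats 1000000

namespace Cfsg.Agent.Chev.F4Graph

open Cfsg.Lie Cfsg.Agent.Chev

variable {F : Type*} [Field F] [Fintype F]

/-- The multiplicative order of the field size. -/
noncomputable def ee (F : Type*) [Fintype F] (r : ℕ) : ℕ := orderOf ((Fintype.card F : ℕ) : ZMod r)

theorem prime_cases {n : ℕ} (hF : Fintype.card F = 2 ^ n) {r : ℕ} [Fact r.Prime] (hr2 : r ≠ 2)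
    (hrG : r ∣ Nat.card ↥(chevF4.group F)) :
    ¬ r ∣ Fintype.card F ∧ r ∣ Fintype.card F ^ ee F r - 1 ∧
      IsPrimitiveRoot ((Fintype.card F : ℕ) : ZMod r) (ee F r) ∧
      (ee F r = 1 ∨ ee F r = 2 ∨ ee F r = 3 ∨ ee F r = 4 ∨ ee F r = 6 ∨ ee F r = 8 ∨ ee F r = 12) ∧
      (3 ≤ ee F r → PrimeE (Fintype.card F) r (ee F r)) := by
  have hrp := (Fact.out : r.Prime)
  have hq2 : 2 ≤ Fintype.card F := Fintype.one_lt_card
  have hrq : ¬ r ∣ Fintype.card F := fun h => by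
    rw [hF] at h
    exact hr2 ((Nat.prime_dvd_prime_iff_eq hrp Nat.prime_two).1 (hrp.dvd_of_dvd_pow h))
  have hprim : IsPrimitiveRoot ((Fintype.card F : ℕ) : ZMod r) (ee F r) := IsPrimitiveRoot.orderOf _
  have hsub : ∀ d, r ∣ Fintype.card F ^ d - 1 ↔ ee F r ∣ d := fun d =>
    HomSylow.dvd_pow_sub_one_iff (by omega)
  obtain ⟨d, hd, hed⟩ : ∃ d ∈ ([2, 6, 8, 12] : List ℕ), ee F r ∣ d := by
    rw [order_F4] at hrG
    have h1 := (hrp.dvd_mul.1 hrG).resolve_left fun h => hrq (hrp.dvd_of_dvd_pow h)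
    obtain ⟨x, hx, hrx⟩ := hrp.prime.dvd_prod_iff.1 h1
    obtain ⟨d, hd, rfl⟩ := List.mem_map.1 hx
    exact ⟨d, hd, (hsub d).1 hrx⟩
  have hcase : ee F r = 1 ∨ ee F r = 2 ∨ ee F r = 3 ∨ ee F r = 4 ∨ ee F r = 6 ∨ ee F r = 8 ∨ ee F r = 12 := by
    have key : ∀ d ∈ ([2, 6, 8, 12] : List ℕ), ∀ e ≤ 12, e ∣ d →
        e = 1 ∨ e = 2 ∨ e = 3 ∨ e = 4 ∨ e = 6 ∨ e = 8 ∨ e = 12 := by decide
    refine key d hd _ (le_trans (Nat.le_of_dvd ?_ hed) ?_) hed
    · simp at hd; omega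
    · simp at hd; omega
  refine ⟨hrq, (hsub _).2 dvd_rfl, hprim, hcase, fun h3 => ⟨hprim, ?_, ?_, ?_⟩⟩
  · rcases hcase with e | e | e | e | e | e | e <;> rw [e] <;> norm_num
  · intro h
    have hlt := Nat.le_of_dvd (by have := hrp.two_le; omega) (HomSylow.orderOf_q_pos (q := Fintype.card F) hrq).2
    have hee : ee F r ≤ r - 1 := hlt
    have h' : r ∣ 2 ^ 7 * 3 ^ 2 := h
    rcases hrp.dvd_mul.1 h' with h1 | h1
    · exact hr2 ((Nat.prime_dvd_prime_iff_eq hrp Nat.prime_two).1 (hrp.dvd_of_dvd_pow h1))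
    · have := (Nat.prime_dvd_prime_iff_eq hrp Nat.prime_three).1 (hrp.dvd_of_dvd_pow h1)
      omega
  · have hlt := Nat.le_of_dvd (by have := hrp.two_le; omega) (HomSylow.orderOf_q_pos (q := Fintype.card F) hrq).2
    have hee : ee F r ≤ r - 1 := hlt
    have := hrp.two_le
    omega

/-- A pair of commuting elements from an element of order `r s`. -/
theorem split_pair {G : Type*} [Group G] {r s : ℕ} (hr : 0 < r) (hs : 0 < s)
    {z : G} (hz : orderOf z = r * s) : ∃ a b : G, orderOf a = r ∧ orderOf b = s ∧ Commute a b := by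
  refine ⟨z ^ s, z ^ r, ?_, ?_, Commute.pow_pow_self z s r⟩
  · rw [orderOf_pow_of_dvd hs.ne' (hz ▸ dvd_mul_left s r), hz, Nat.mul_div_cancel _ hs]
  · rw [orderOf_pow_of_dvd hr.ne' (hz ▸ dvd_mul_right r s), hz, Nat.mul_div_cancel_left _ hr]

theorem graph_cases : ∀ k ∈ ([1, 2, 3, 4, 6, 8, 12] : List ℕ), ∀ l ∈ ([1, 2, 3, 4, 6, 8, 12] : List ℕ),
    ¬ (k ≤ 2 ∧ l ≤ 6) → ¬ (l ≤ 2 ∧ k ≤ 6) → ¬ (k = l ∧ 3 ≤ k) →
    ((k < l ∧ ((l = 8 ∨ l = 12) ∨ (l = 6 ∧ (k = 3 ∨ k = 4)) ∨ (l = 4 ∧ k = 3))) ∨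
      (l < k ∧ ((k = 8 ∨ k = 12) ∨ (k = 6 ∧ (l = 3 ∨ l = 4)) ∨ (k = 4 ∧ l = 3)))) := by decide

theorem phi12_three : ∀ x : ZMod 3, (x ^ 2) ^ 2 - x ^ 2 + 1 ≠ 0 := by decide

/-- A prime with another order does not divide the value of the cyclotomic polynomial. -/
theorem not_dvd_cyclo {n : ℕ} (hn : 1 ≤ n) (hF : Fintype.card F = 2 ^ n) {s l : ℕ} [Fact s.Prime]
    (hl : l = 8 ∨ l = 12) (hne : ee F s ≠ l) :
    ¬ s ∣ ((Polynomial.cyclotomic l ℤ).eval (Fintype.card F : ℤ)).natAbs := by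
  intro h
  have h1 : Polynomial.IsRoot (Polynomial.cyclotomic l (ZMod s)) ((Fintype.card F : ℕ) : ZMod s) := by
    rw [← Polynomial.map_cyclotomic_int, Polynomial.IsRoot,
      show ((Fintype.card F : ℕ) : ZMod s) = Int.castRingHom (ZMod s) (Fintype.card F : ℤ) by simp,
      Polynomial.eval_map, Polynomial.eval₂_at_apply]
    exact (ZMod.intCast_zmod_eq_zero_iff_dvd _ _).2 (Int.natCast_dvd.2 h)
  by_cases hsl : s ∣ l
  · by_cases h2 : s = 2
    · subst h2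
      have h3 := Polynomial.IsRoot.dvd h1 (Polynomial.cyclotomic.dvd_X_pow_sub_one l (ZMod 2))
      have h0 : ((Fintype.card F : ℕ) : ZMod 2) = 0 := by
        rw [ZMod.natCast_eq_zero_iff, hF]
        exact dvd_pow_self 2 (by omega)
      rw [h0, Polynomial.IsRoot] at h3
      simp [show l ≠ 0 by omega] at h3
    · have hs3 : s = 3 ∧ l = 12 := by
        have hsp := (Fact.out : s.Prime)
        rcases hl with rfl | rfl
        · exact absurd ((Nat.prime_dvd_prime_iff_eq hsp Nat.prime_two).1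
            (hsp.dvd_of_dvd_pow (show s ∣ 2 ^ 3 from hsl))) h2
        · rcases hsp.dvd_mul.1 (show s ∣ 2 ^ 2 * 3 from hsl) with e | e
          · exact absurd ((Nat.prime_dvd_prime_iff_eq hsp Nat.prime_two).1 (hsp.dvd_of_dvd_pow e)) h2
          · exact ⟨(Nat.prime_dvd_prime_iff_eq hsp Nat.prime_three).1 e, rfl⟩
      obtain ⟨rfl, rfl⟩ := hs3
      rw [show (12 : ℕ) = 6 * 2 from rfl, ← Polynomial.cyclotomic_expand_eq_cyclotomic Nat.prime_two (by norm_num),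
        Polynomial.IsRoot, Polynomial.expand_eval, Polynomial.cyclotomic_six] at h1
      simp only [Polynomial.eval_add, Polynomial.eval_sub, Polynomial.eval_pow, Polynomial.eval_X,
        Polynomial.eval_one] at h1
      exact phi12_three _ h1
  · haveI : NeZero (l : ZMod s) := ⟨fun e => hsl ((ZMod.natCast_eq_zero_iff _ _).1 e)⟩
    exact hne (Polynomial.isRoot_cyclotomic_iff.1 h1).eq_orderOf.symm

variable {L : Type*} [Field L] [Fintype L]

/-- No element of order `r s` when `e r` is eight or twelve and differs from `e s`. -/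
theorem nonadj_big (E : Ext F L) {n : ℕ} (hn : 1 ≤ n) (hF : Fintype.card F = 2 ^ n) {r s : ℕ} [Fact r.Prime]
    [Fact s.Prime] (hrG : r ∣ Nat.card ↥(chevF4.group F)) (hr2 : r ≠ 2) (hl : ee F r = 8 ∨ ee F r = 12)
    (hne : ee F s ≠ ee F r) : ¬ ∃ z : ↥(chevF4.group F), orderOf z = r * s := by
  rintro ⟨z, hz⟩
  obtain ⟨a, b, ha, hb, hab⟩ := split_pair (Fact.out : r.Prime).pos (Fact.out : s.Prime).pos hz
  exact not_dvd_cyclo hn hF hl hne
    (E.nonadj_regular hl ((prime_cases hF hr2 hrG).2.2.2.2 (by omega)) ha hb hab)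

/-- No element of order `r s` for the three pairs. -/
theorem nonadj_mid (E : Ext F L) {n : ℕ} (hF : Fintype.card F = 2 ^ n) {r s : ℕ} [Fact r.Prime] [Fact s.Prime]
    (hrG : r ∣ Nat.card ↥(chevF4.group F)) (hsG : s ∣ Nat.card ↥(chevF4.group F)) (hr2 : r ≠ 2) (hs2 : s ≠ 2)
    (h : (ee F r = 3 ∧ ee F s = 4) ∨ (ee F r = 3 ∧ ee F s = 6) ∨ (ee F r = 4 ∧ ee F s = 6)) :
    ¬ ∃ z : ↥(chevF4.group F), orderOf z = r * s := by
  rintro ⟨z, hz⟩
  obtain ⟨a, b, ha, hb, hab⟩ := split_pair (Fact.out : r.Prime).pos (Fact.out : s.Prime).pos hz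
  exact E.nonadj_pair h ((prime_cases hF hr2 hrG).2.2.2.2 (by omega)) ((prime_cases hF hs2 hsG).2.2.2.2 (by omega))
    ha hb hab

/-- An element of order `r s` with `e r ≤ 2` and `e s ≤ 6`. -/
theorem adj_low {n : ℕ} (hF : Fintype.card F = 2 ^ n) {r s : ℕ} [Fact r.Prime] [Fact s.Prime] (hrs : r ≠ s)
    (hrG : r ∣ Nat.card ↥(chevF4.group F)) (hsG : s ∣ Nat.card ↥(chevF4.group F)) (hr2 : r ≠ 2) (hs2 : s ≠ 2)
    (hk : ee F r ≤ 2) (hl : ee F s ≤ 6) : ∃ z : ↥(chevF4.group F), orderOf z = r * s := by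
  obtain ⟨hrq, hr, -, hcr, -⟩ := prime_cases hF hr2 hrG
  obtain ⟨hsq, hs, -, hcs, -⟩ := prime_cases hF hs2 hsG
  refine adj_small hrs hrq hsq ?_ (e := ee F s) ?_ hs
  · refine hr.trans ?_
    have h12 : ee F r ∣ 2 := by rcases hcr with e | e | e | e | e | e | e <;> rw [e] at hk ⊢ <;> omega
    obtain ⟨k, hk'⟩ := h12
    rw [hk', pow_mul]
    simpa using Nat.sub_dvd_pow_sub_pow (Fintype.card F ^ ee F r) 1 k
  · rcases hcs with e | e | e | e | e | e | e <;> rw [e] at hl ⊢ <;> simp at hl ⊢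

theorem prime_graph {n : ℕ} (hn : 1 ≤ n) (hF : Fintype.card F = 2 ^ n) {r s : ℕ} [Fact r.Prime] [Fact s.Prime]
    (hrs : r ≠ s) (hrG : r ∣ Nat.card ↥(chevF4.group F)) (hsG : s ∣ Nat.card ↥(chevF4.group F)) :
    (¬ ∃ x : ↥(chevF4.group F), orderOf x = r * s) ↔
      ((r = 2 ∧ ee F s ∈ ({8, 12} : Finset ℕ)) ∨ (s = 2 ∧ ee F r ∈ ({8, 12} : Finset ℕ)) ∨
       (r ≠ 2 ∧ s ≠ 2 ∧
         ((ee F r < ee F s ∧ (ee F s ∈ ({8, 12} : Finset ℕ) ∨ (ee F s = 6 ∧ ee F r ∈ ({3, 4} : Finset ℕ)) ∨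
            (ee F s = 4 ∧ ee F r = 3))) ∨
          (ee F s < ee F r ∧ (ee F r ∈ ({8, 12} : Finset ℕ) ∨ (ee F r = 6 ∧ ee F s ∈ ({3, 4} : Finset ℕ)) ∨
            (ee F r = 4 ∧ ee F s = 3)))))) := by
  classical
  haveI : CharP F 2 := charP_of_card_eq_prime_pow hF
  haveI : Fintype (FiniteField.Extension F 2 24) := Fintype.ofFinite _
  let L := FiniteField.Extension F 2 24
  let ι : F →+* L := algebraMap F L
  obtain ⟨σ, hσ⟩ : ∃ σ : L →+* L, ∀ x, σ x = x ^ Fintype.card F := by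
    haveI : CharP L 2 := (ι.charP_iff ι.injective 2).1 inferInstance
    exact ⟨iterateFrobenius L 2 n, fun x => by rw [iterateFrobenius_def, hF]⟩
  let E : Ext F L := ⟨ι, σ, hσ, by
    rw [← Nat.card_eq_fintype_card, FiniteField.natCard_extension F 2 24, Nat.card_eq_fintype_card]⟩
  have hswap : (∃ x : ↥(chevF4.group F), orderOf x = r * s) ↔ ∃ x : ↥(chevF4.group F), orderOf x = s * r := by
    rw [mul_comm r s]
  simp only [Finset.mem_insert, Finset.mem_singleton]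
  by_cases hr2 : r = 2
  · subst hr2
    have hs2 : s ≠ 2 := Ne.symm hrs
    obtain ⟨hsq, hs, -, hcs, -⟩ := prime_cases hF hs2 hsG
    constructor
    · intro h
      refine Or.inl ⟨rfl, ?_⟩
      by_contra hc
      exact h (adj_two hsq hs2 (e := ee F s)
        (by rcases hcs with e | e | e | e | e | e | e <;> rw [e] at hc ⊢ <;> simp at hc ⊢) hs)
    · rintro (⟨-, h⟩ | ⟨h, -⟩ | ⟨h, -⟩)
      · rw [hswap]
        refine nonadj_big E hn hF hsG hs2 h ?_
        intro e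
        have h1 : IsPrimitiveRoot ((Fintype.card F : ℕ) : ZMod 2) (ee F 2) := IsPrimitiveRoot.orderOf _
        rw [e] at h1
        have h0 : ((Fintype.card F : ℕ) : ZMod 2) = 0 := by
          rw [ZMod.natCast_eq_zero_iff, hF]
          exact dvd_pow_self 2 (by omega)
        have := h1.pow_eq_one
        rw [h0, zero_pow (by omega)] at this
        exact zero_ne_one this
      · exact absurd h hs2
      · exact absurd rfl h
  by_cases hs2 : s = 2
  · subst hs2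
    obtain ⟨hrq, hr, -, hcr, -⟩ := prime_cases hF hr2 hrG
    constructor
    · intro h
      refine Or.inr (Or.inl ⟨rfl, ?_⟩)
      by_contra hc
      exact h (hswap.2 (adj_two hrq hr2 (e := ee F r)
        (by rcases hcr with e | e | e | e | e | e | e <;> rw [e] at hc ⊢ <;> simp at hc ⊢) hr))
    · rintro (⟨h, -⟩ | ⟨-, h⟩ | ⟨-, h, -⟩)
      · exact absurd h hr2
      · refine nonadj_big E hn hF hrG hr2 h ?_
        intro e
        have h1 : IsPrimitiveRoot ((Fintype.card F : ℕ) : ZMod 2) (ee F 2) := IsPrimitiveRoot.orderOf _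
        rw [e] at h1
        have h0 : ((Fintype.card F : ℕ) : ZMod 2) = 0 := by
          rw [ZMod.natCast_eq_zero_iff, hF]
          exact dvd_pow_self 2 (by omega)
        have := h1.pow_eq_one
        rw [h0, zero_pow (by omega)] at this
        exact zero_ne_one this
      · exact absurd rfl h
  obtain ⟨-, -, -, hcr, hpr⟩ := prime_cases hF hr2 hrG
  obtain ⟨-, -, -, hcs, hps⟩ := prime_cases hF hs2 hsG
  constructor
  · intro h
    refine Or.inr (Or.inr ⟨hr2, hs2, ?_⟩)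
    have h1 : ee F r ≤ 2 → ee F s ≤ 6 → False := fun a b => h (adj_low hF hrs hrG hsG hr2 hs2 a b)
    have h2 : ee F s ≤ 2 → ee F r ≤ 6 → False := fun a b => h (hswap.2 (adj_low hF (Ne.symm hrs) hsG hrG hs2 hr2 a b))
    have h3 : ee F r = ee F s → 3 ≤ ee F r → False := fun e a => by
      have hs' := hps (by omega)
      rw [← e] at hs'
      rcases (show (ee F r = 3 ∨ ee F r = 4 ∨ ee F r = 6) ∨ (ee F r = 8 ∨ ee F r = 12) by omega) with c | c
      · exact h (E.adj_quad c hrs (hpr a) hs' hrG)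
      · exact h (E.adj_regular c hrs (hpr a) hs' hrG)
    refine graph_cases _ ?_ _ ?_ (fun x => h1 x.1 x.2) (fun x => h2 x.1 x.2) (fun x => h3 x.1 x.2)
    · simpa using hcr
    · simpa using hcs
  · rintro (⟨h, -⟩ | ⟨h, -⟩ | ⟨-, -, h⟩)
    · exact absurd h hr2
    · exact absurd h hs2
    rcases h with ⟨hlt, h | ⟨a, b⟩ | ⟨a, b⟩⟩ | ⟨hlt, h | ⟨a, b⟩ | ⟨a, b⟩⟩
    · rw [hswap]; exact nonadj_big E hn hF hsG hs2 h (by omega)
    · exact nonadj_mid E hF hrG hsG hr2 hs2 (by omega)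
    · exact nonadj_mid E hF hrG hsG hr2 hs2 (by omega)
    · exact nonadj_big E hn hF hrG hr2 h (by omega)
    · rw [hswap]; exact nonadj_mid E hF hsG hrG hs2 hr2 (by omega)
    · rw [hswap]; exact nonadj_mid E hF hsG hrG hs2 hr2 (by omega)

end Cfsg.Agent.Chev.F4Graph
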