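import Cfsg.Agent.Lib.Chev.Parabolic
import Cfsg.Agent.Lib.Chev.SteinCells
import Cfsg.Agent.Lib.Chev.Order
import Mathlib.GroupTheory.Index
import Mathlib.GroupTheory.QuotientGroup.Basic

/-!
The cells inside a parabolic subgroup, its order, and primes dividing the order of the subgroup generated by
the root groups of a Levi complement.
-/

set_option autoImplicit false
set_option linter.unusedSectionVars false

namespace Cfsg.Agent.Chev.F4Graph

open Cfsg.Lie Cfsg.Agent.Chev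

theorem prime_dvd_left_of_sup {G : Type*} [Group G] {H N : Subgroup G} (hn : H ≤ Subgroup.normalizer (N : Set G))
    {s : ℕ} (hs : s.Prime) (hd : s ∣ Nat.card ↥(H ⊔ N)) (hN : ¬ s ∣ Nat.card N) : s ∣ Nat.card H := by
  haveI : (N.subgroupOf (H ⊔ N)).Normal :=
    Subgroup.normal_subgroupOf_of_le_normalizer (sup_le hn Subgroup.le_normalizer)
  set π := QuotientGroup.mk' (N.subgroupOf (H ⊔ N))
  have hsurj : Function.Surjective (π.comp (Subgroup.inclusion (le_sup_left : H ≤ H ⊔ N))) := by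
    intro z
    obtain ⟨⟨x, hx⟩, rfl⟩ := QuotientGroup.mk'_surjective _ z
    rw [← SetLike.mem_coe, Subgroup.coe_mul_of_left_le_normalizer_right H N hn] at hx
    obtain ⟨a, ha, b, hb, rfl⟩ := hx
    refine ⟨⟨a, ha⟩, ?_⟩
    show QuotientGroup.mk' _ _ = QuotientGroup.mk' _ _
    rw [QuotientGroup.mk'_eq_mk']
    exact ⟨⟨b, Subgroup.mem_sup_right hb⟩, hb, Subtype.ext rfl⟩
  rw [Subgroup.card_eq_card_quotient_mul_card_subgroup (N.subgroupOf (H ⊔ N)),
    Nat.card_congr (Subgroup.subgroupOfEquivOfLe (le_sup_right : N ≤ H ⊔ N)).toEquiv] at hd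
  exact ((hs.dvd_mul.1 hd).resolve_right hN).trans (Subgroup.card_dvd_of_surjective _ hsurj)

variable {D : ChevalleyDatum} {P : Pk} {F : Type*} [Field F] (h : Ok D P)
include h

theorem parabolic_le_group (J : Set ℕ) : D.parabolicSubgroup F J ≤ D.group F := by
  rw [h.parabolic_eq_levi, h.levi_eq]
  exact sup_le (h.genR_le fun r _ t => h.mem_group_of_xG r t)
    (sup_le h.diagonal_le_group (h.genR_le fun r _ t => h.mem_group_of_xG r t))

theorem word_of_parabolic (hC : P.ckComm = true) {K : Finset ℕ} (hK : K ⊆ Finset.range P.rank) {g : GL D.Idx F}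
    (hg : g ∈ D.parabolicSubgroup F (↑K : Set ℕ)) {l : List ℕ} (hl : WordOk P l) (hc : h.Cell l g) :
    ∃ x, (∀ i ∈ x, i ∈ K) ∧ WordOk P x ∧ ∀ r < P.nroots, wl P l r = wl P x r := by
  obtain ⟨c, hc, c', hc', e⟩ := hc
  obtain ⟨x, hx, hmin⟩ := h.exists_min_right hK _ _ hl le_rfl
  have hxok := (wordIn_of_mem hK hx).1
  have hok := wordOk_append hl hxok
  have hcell : h.Cell (F := F) (l ++ x) (c * h.nW (l ++ x)) := ⟨c, hc, 1, one_mem _, (mul_one _).symm⟩
  have h1 : c * h.nW (l ++ x) ∈ D.parabolicSubgroup F (↑K : Set ℕ) := by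
    rw [h.nW_append, show c * (h.nW l * h.nW x) = g * c'⁻¹ * h.nW x by rw [e]; group]
    exact mul_mem (mul_mem hg (inv_mem (Subgroup.mem_sup_left hc'))) (h.nW_mem_parabolic hK x hx)
  have hnil : K ⊆ asc P [] := fun i hi =>
    mem_asc.2 ⟨Finset.mem_range.1 (hK hi), h.sim_pos (Finset.mem_range.1 (hK hi))⟩
  have hone : h.Cell (F := F) [] 1 := by simpa [h.nW_nil] using h.cell_self (F := F) []
  have h2 := h.min_coset hC hK (l := []) (fun _ hx => absurd hx List.not_mem_nil) hok hnil hmin hone hcell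
    (by simpa using h1)
  rw [inv_one, one_mul] at h2
  have h3 := h.cell_unique hC hok (l' := []) (fun _ hx => absurd hx List.not_mem_nil) hcell
    ⟨_, h2, 1, one_mem _, by rw [h.nW_nil]; simp⟩
  refine ⟨x.reverse, fun i hi => hx i (List.mem_reverse.1 hi), fun i hi => hxok i (List.mem_reverse.1 hi),
    fun r hr => ?_⟩
  have hxr : WordOk P x.reverse := fun i hi => hxok i (List.mem_reverse.1 hi)
  have h4 := h3 _ (h.wl_lt _ hxr r hr)
  rw [wl_append] at h4
  have h5 := h.wl_reverse x.reverse hxr r hr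
  rw [List.reverse_reverse] at h5
  rwa [h5] at h4

theorem card_parabolic [Fintype F] (hC : P.ckComm = true) {J : List ℕ} (hJ : ∀ i ∈ J, i < P.rank) :
    Nat.card (D.parabolicSubgroup F (↑J.toFinset : Set ℕ)) =
      Fintype.card F ^ (P.nroots / 2) * Nat.card (D.diagonalSubgroup F) * poin P J (Fintype.card F) := by
  classical
  rw [← h.card_pos (F := F) hC, ← h.card_borel]
  have hK : J.toFinset ⊆ Finset.range P.rank := fun i hi => Finset.mem_range.2 (hJ i (List.mem_toFinset.1 hi))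
  have hsel : ∀ f ∈ WJ P J, ∃ l, WordIn P J l ∧ act P l = f := fun f hf => h.mem_WJ.1 hf
  choose! wd hwd using hsel
  set M := D.parabolicSubgroup F (↑J.toFinset : Set ℕ)
  have hB : D.borelSubgroup F ≤ M := le_sup_left
  have hn : ∀ f ∈ WJ P J, h.nW (F := F) (wd f) ∈ M := fun f hf =>
    h.nW_mem_parabolic hK _ fun i hi => List.mem_toFinset.2 ((hwd f hf).1.2 i hi)
  let T := Σ f : WJ P J, D.borelSubgroup F × h.genR (F := F) (negS P (wd f.1))
  let Φ : T → M := fun x => ⟨x.2.1.1 * h.nW (wd x.1.1) * x.2.2.1,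
    mul_mem (mul_mem (hB x.2.1.2) (hn _ x.1.2)) (hB (Subgroup.mem_sup_left (h.negS_le_pos _ x.2.2.2)))⟩
  have hΦ : Function.Bijective Φ := by
    constructor
    · rintro ⟨f, b, u⟩ ⟨f', b', u'⟩ e
      have e' := congrArg Subtype.val e
      simp only [Φ] at e'
      obtain ⟨⟨hl, -⟩, hf⟩ := hwd _ f.2
      obtain ⟨⟨hl', -⟩, hf'⟩ := hwd _ f'.2
      have h1 := h.bruhat_unique hC b.2 b'.2 hl hl' (one_mem _) (one_mem _) (h.negS_le_pos _ u.2)
        (h.negS_le_pos _ u'.2) (by simpa using e')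
      have hff : f = f' := Subtype.ext (by
        rw [← hf, ← hf', h.act_eq_iff hl hl']
        exact fun r hr => h.wl_eq_of_mem hl hl' h1 hr)
      subst hff
      obtain ⟨eb, eu⟩ := h.bruhat_factor hl (one_mem _) b.2 b'.2 u.2 u'.2 (by simpa using e')
      rw [Subtype.ext eb, Subtype.ext eu]
    · rintro ⟨g, hg⟩
      obtain ⟨b, hb, l, hl, u, hu, rfl⟩ := h.bruhat_exists hC (parabolic_le_group h _ hg)
      obtain ⟨x, hxK, hx, heq0⟩ := word_of_parabolic h hC hK hg hl
        ⟨b, hb, u, Subgroup.mem_sup_left (h.negS_le_pos l hu), rfl⟩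
      have hin : act P l ∈ WJ P J := h.mem_WJ.2
        ⟨x, ⟨hx, fun i hi => List.mem_toFinset.1 (hxK i hi)⟩, (h.act_eq_iff hx hl).2 fun r hr => (heq0 r hr).symm⟩
      obtain ⟨⟨hl', -⟩, hf⟩ := hwd _ hin
      have heq := (h.act_eq_iff hl' hl).1 hf
      set d := (h.nW (F := F) (wd (act P l)))⁻¹ * h.nW l
      have hd : d ∈ D.diagonalSubgroup F := h.mem_diagonal_of_wl_eq hl' hl heq
      have hd' := (Subgroup.mem_normalizer_iff.1 (h.nW_normalizer (F := F) _ hl') d).1 hd
      have hu' : u ∈ h.genR (negS P (wd (act P l))) :=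
        h.genR_mono (fun r hr => ⟨hr.1, by rw [heq r (P.isPos_iff.1 hr.1).2]; exact hr.2⟩) hu
      refine ⟨⟨⟨_, hin⟩, ⟨b * (h.nW (wd (act P l)) * d * (h.nW (wd (act P l)))⁻¹),
        mul_mem hb (Subgroup.mem_sup_right hd')⟩, ⟨u, hu'⟩⟩, Subtype.ext ?_⟩
      simp only [Φ, d]
      group
  haveI : Finite (GL D.Idx F) := inferInstance
  rw [← Nat.card_eq_of_bijective Φ hΦ, Nat.card_sigma, poin, Finset.mul_sum, ← Finset.sum_coe_sort (WJ P J)]
  refine Finset.sum_congr rfl fun f _ => ?_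
  obtain ⟨hin, hf⟩ := hwd _ f.2
  rw [Nat.card_prod, h.card_negS hC (J := List.range P.rank) (fun i hi => List.mem_range.2 hi) hin.1]
  conv_rhs => rw [← hf]
  congr 2
  unfold invJ
  refine congrArg Finset.card (Finset.filter_congr fun r _ => ⟨fun hr => ⟨?_, hr.2⟩, fun hr => ⟨?_, hr.2⟩⟩)
  · rw [inJ_iff]
    intro m hm hmJ
    have h1 := (h.rv_sign r.isLt hm).1 hr.2.1
    have h2 := (h.rv_sign (h.wl_lt _ hin.1 _ r.isLt) hm).2 (by rw [← h.act_val hin.1 r]; exact hr.2.2)
    rw [h.wl_outside hin r.isLt hm hmJ] at h2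
    omega
  · exact inJ_iff.2 fun m hm hn => absurd (List.mem_range.2 hm) hn

/-- Primes of the Poincaré polynomial divide the order of the group generated by the root groups in `J`. -/
theorem dvd_card_genR [Fintype F] (hC : P.ckComm = true) {J : List ℕ} (hJ : ∀ i ∈ J, i < P.rank) {s : ℕ}
    (hs : s.Prime) (hsq : ¬ s ∣ Fintype.card F) (hsT : ¬ s ∣ Nat.card (D.diagonalSubgroup F))
    (hpoin : s ∣ poin P J (Fintype.card F)) :
    s ∣ Nat.card (h.genR (F := F) (InJ P (↑J.toFinset : Set ℕ))) := by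
  set K : Set ℕ := ↑J.toFinset
  have hP : s ∣ Nat.card (D.parabolicSubgroup F K) := by
    rw [card_parabolic h hC hJ]
    exact dvd_mul_of_dvd_right hpoin _
  rw [h.parabolic_eq_levi, sup_comm] at hP
  have hR : ¬ s ∣ Nat.card (h.genR (F := F) (Ok.Out P (fun m => m ∈ K))) := fun hd => hsq (hs.dvd_of_dvd_pow
    ((hd.trans (Subgroup.card_dvd_of_le (h.genR_le fun r hr t => h.xG_mem_pos ((h.out_iff K r).1 hr).1 t))).trans
      (h.card_pos (F := F) hC).dvd))
  have hLn : D.leviSubgroup F K ≤ Subgroup.normalizer (h.genR (F := F) (Ok.Out P (fun m => m ∈ K)) : Set (GL D.Idx F)) := by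
    have := h.radical_normal (F := F) hC K
    rw [h.radical_eq, h.parabolic_eq_levi] at this
    exact le_sup_right.trans this
  have hL := prime_dvd_left_of_sup hLn hs hP hR
  rw [h.levi_eq] at hL
  have hTn : D.diagonalSubgroup F ≤ Subgroup.normalizer (h.genR (F := F) (InJ P K) : Set (GL D.Idx F)) := by
    intro g hg
    obtain ⟨c, rfl⟩ := h.mem_diagonal_iff.1 hg
    refine mem_normalizer_closure ?_ ?_ <;> rintro _ ⟨r, t, hr, rfl⟩
    · rw [h.hHom_xG c hr.1]; exact h.xG_mem_genR hr _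
    · have := h.hHom_xG (F := F) c⁻¹ hr.1 t
      rw [map_inv, inv_inv] at this
      rw [this]; exact h.xG_mem_genR hr _
  by_contra hcon
  exact hsT (prime_dvd_left_of_sup hTn hs hL hcon)

end Cfsg.Agent.Chev.F4Graph
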