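import Cfsg.Agent.Lib.Chev.F4Graph.Small
import Cfsg.Agent.Lib.Chev.HomSylow.Main

/-!
Semisimple elements of prime order in `F₄(2ⁿ)` over the extension of degree twenty-four.
-/

set_option autoImplicit false
set_option maxRecDepth 20000
set_option maxHeartbeats 1600000

namespace Cfsg.Agent.Chev.F4Graph

open Cfsg.Lie Cfsg.Agent.Chev Cfsg.Agent.Chev.CyclTorus
open scoped Matrix

variable {F : Type*} [Field F] [Fintype F] {L : Type*} [Field L] [Fintype L]

/-- The extension data. -/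
structure Ext (F : Type*) (L : Type*) [Field F] [Fintype F] [Field L] [Fintype L] where
  ι : F →+* L
  σ : L →+* L
  hσ : ∀ x, σ x = x ^ Fintype.card F
  hL : Fintype.card L = Fintype.card F ^ 24

variable (E : Ext F L)

theorem Ext.sigma_iota (x : GL chevF4.Idx F) : gmap chevF4 E.σ (gmap chevF4 E.ι x) = gmap chevF4 E.ι x := by
  apply Units.ext
  rw [coe_gmap, coe_gmap, Matrix.map_map]
  congr 1
  funext z
  show E.σ (E.ι z) = E.ι z
  rw [E.hσ, ← map_pow, FiniteField.pow_card]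

theorem Ext.sigma_hHom (c : Fin F4.pk.rank → Lˣ) :
    gmap chevF4 E.σ (F4.ok.hHom c) = F4.ok.hHom (c ^ Fintype.card F) := by
  rw [F4.ok.gmap_hHom E.σ]
  exact congrArg _ (funext fun i => Units.ext (by simp [E.hσ]))

theorem Ext.descend {g : GL chevF4.Idx L} (hg : g ∈ chevF4.group L) (e : gmap chevF4 E.σ g = g) :
    ∃ x : ↥(chevF4.group F), gmap chevF4 E.ι x = g := by
  obtain ⟨x, hx, ex⟩ := F4.ok.mem_map_of_fixed ckComm_F4 hinj_F4 E.ι E.σ
    (fun z hz => G2Singer.fixed_range E.ι rfl (by rw [← E.hσ]; exact hz)) hg e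
  exact ⟨⟨x, hx⟩, ex⟩

/-- The image of the group in the group over the extension. -/
noncomputable def Ext.em : ↥(chevF4.group F) →* ↥(chevF4.group L) :=
  ((gmap chevF4 E.ι).comp (chevF4.group F).subtype).codRestrict (chevF4.group L) fun x =>
    F4.ok.map_group_le E.ι ⟨_, x.2, rfl⟩

theorem Ext.coe_em (x : ↥(chevF4.group F)) : (E.em x : GL chevF4.Idx L) = gmap chevF4 E.ι x := rfl

theorem Ext.em_inj : Function.Injective E.em := fun _ _ e =>
  Subtype.ext (gmap_injective E.ι (congrArg Subtype.val e))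

/-- The split torus over the extension. -/
noncomputable def TL (L : Type*) [Field L] : Subgroup ↥(chevF4.group L) :=
  (chevF4.diagonalSubgroup L).subgroupOf (chevF4.group L)

theorem wl_prod : (([2, 6, 8, 12] : List ℕ)).prod = 1152 := by decide

include E in
theorem Ext.index_TL {r : ℕ} [Fact r.Prime] (hQ : ((Fintype.card F ^ 24 : ℕ) : ZMod r) = 1) (hr : ¬ r ∣ 1152) :
    ¬ r ∣ (TL L).index := by
  have e0 := F4.ok.card_group (F := L) ckComm_F4 (J := [3, 2, 1, 0]) (by decide)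
  have e1 := (TL L).card_mul_index
  rw [TL, Nat.card_congr (Subgroup.subgroupOfEquivOfLe F4.ok.diagonal_le_group).toEquiv, e0,
    F4.ok.poin_eq [3, 2, 1, 0] ckOrb_F4, E.hL, mul_comm _ (Nat.card ↥(chevF4.diagonalSubgroup L)), mul_assoc] at e1
  have e2 := Nat.eq_of_mul_eq_mul_left Nat.card_pos e1
  intro hdvd
  rw [TL, e2, ← ZMod.natCast_eq_zero_iff, Nat.cast_mul, Nat.cast_pow, hQ, one_pow, one_mul, pev_cast hQ,
    poinP_F4, HomSylow.pev_one_pgeom, wl_prod, ZMod.natCast_eq_zero_iff] at hdvd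
  exact hr hdvd

theorem WM_ord {l : List ℕ} (hl : WordOk F4.pk l) : WM F4.pk l ^ 1152 = 1 := by
  rw [← wl_prod]
  exact HomSylow.WM_pow_card F4.ok ckComm_F4 (J := [3, 2, 1, 0]) (by decide) ckOrb_F4 poinP_F4 (by decide) hl

theorem exists_L_list {l : List ℕ} (hl : WordOk F4.pk l) :
    ∃ M : List ℕ, (∀ d ∈ M, d ∣ 1152) ∧
      (WM F4.pk l).charpoly = (M.map fun d => Polynomial.cyclotomic d ℤ).prod ∧ (M.map Nat.totient).sum = 4 :=
  HomSylow.exists_cyclo_list (by norm_num) (WM_ord hl)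

include E in
theorem Ext.exists_Z {r : ℕ} [Fact r.Prime] (hQ : ((Fintype.card F ^ 24 : ℕ) : ZMod r) = 1) :
    ∃ Z : Multiplicative (ZMod r) →* Lˣ, Function.Injective Z ∧
      ∀ u : Lˣ, u ^ r = 1 → ∃ f : ZMod r, u = Z (Multiplicative.ofAdd f) := by
  classical
  haveI : NeZero r := ⟨(Fact.out : r.Prime).ne_zero⟩
  obtain ⟨ζ, hζ⟩ := exists_prime_orderOf_dvd_card' (G := Lˣ) r (by
    rw [Nat.card_eq_fintype_card, Fintype.card_units, E.hL, ← ZMod.natCast_eq_zero_iff,
      Nat.cast_sub (Nat.one_le_pow _ _ Fintype.card_pos), hQ, Nat.cast_one, sub_self])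
  exact exists_zhom (hζ ▸ IsPrimitiveRoot.orderOf ζ)

theorem hchar_pow {c : Fin F4.pk.rank → Lˣ} (n s : ℕ) : hchar F4.pk (c ^ n) s = hchar F4.pk c s ^ n := by
  simp only [hchar, ← Finset.prod_pow, Pi.pow_apply, Units.val_pow_eq_pow_val]
  exact Finset.prod_congr rfl fun i _ => by rw [← zpow_natCast, ← zpow_natCast, zpow_comm]

/-- The exponents of a torus element of order dividing `r`. -/
theorem exponent_of_pow {r : ℕ} (Z : Multiplicative (ZMod r) →* Lˣ)
    (hZ : ∀ u : Lˣ, u ^ r = 1 → ∃ f : ZMod r, u = Z (Multiplicative.ofAdd f))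
    {c : Fin F4.pk.rank → Lˣ} (hc : F4.ok.hHom c ^ r = 1) :
    ∃ f : Fin F4.pk.rank → ZMod r, ∀ s < F4.pk.nroots,
      hchar F4.pk c s = (Z (Multiplicative.ofAdd (dot F4.pk f s)) : L) :=
  exists_exponent F4.ok Z hZ c fun s hs => by
    rw [← hchar_pow]
    exact HomSylow.hchar_of_hHom_one F4.ok (by rw [map_pow, hc]) hs

/-- The element of the group over the extension is fixed. -/
theorem Ext.fix_of_em {y : GL chevF4.Idx L} {c : Fin F4.pk.rank → Lˣ} {x : ↥(chevF4.group F)}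
    (e : gmap chevF4 E.ι x = y * F4.ok.hHom c * y⁻¹) :
    gmap chevF4 E.σ (y * F4.ok.hHom c * y⁻¹) = y * F4.ok.hHom c * y⁻¹ := by
  rw [← e]
  exact E.sigma_iota _

/-- A subgroup of prime power order goes into the torus. -/
theorem Ext.to_torus {r : ℕ} [Fact r.Prime] (hQ : ((Fintype.card F ^ 24 : ℕ) : ZMod r) = 1) (hr : ¬ r ∣ 1152)
    {S : Subgroup ↥(chevF4.group F)} (hS : IsPGroup r S) :
    ∃ y ∈ chevF4.group L, ∀ x ∈ S, ∃ c, gmap chevF4 E.ι x = y * F4.ok.hHom c * y⁻¹ := by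
  obtain ⟨z, hz⟩ := conj_into (E.index_TL hQ hr) (hS.map E.em)
  refine ⟨((z⁻¹ : ↥(chevF4.group L)) : GL chevF4.Idx L), (z⁻¹).2, fun x hx => ?_⟩
  obtain ⟨c, hc⟩ := F4.ok.mem_diagonal_iff.1 (Subgroup.mem_subgroupOf.1 (hz _ ⟨x, hx, rfl⟩))
  refine ⟨c, ?_⟩
  rw [hc, ← E.coe_em]
  simp only [Subgroup.coe_mul, Subgroup.coe_inv]
  group

/-- Two commuting elements of prime orders go into one torus. -/
theorem Ext.to_torus_pair {r s : ℕ} [Fact r.Prime] [Fact s.Prime]
    (hQr : ((Fintype.card F ^ 24 : ℕ) : ZMod r) = 1) (hQs : ((Fintype.card F ^ 24 : ℕ) : ZMod s) = 1)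
    (hr : ¬ r ∣ 1152) (hs : ¬ s ∣ 1152) {a b : ↥(chevF4.group F)} (ha : orderOf a = r) (hb : orderOf b = s)
    (hab : Commute a b) :
    ∃ y ∈ chevF4.group L, ∃ c c', gmap chevF4 E.ι a = y * F4.ok.hHom c * y⁻¹ ∧
      gmap chevF4 E.ι b = y * F4.ok.hHom c' * y⁻¹ := by
  obtain ⟨z1, hz1⟩ := conj_into (E.index_TL hQr hr)
    ((IsPGroup.of_card (n := 1) (by rw [Nat.card_zpowers, ha, pow_one]) :
      IsPGroup r (Subgroup.zpowers a)).map E.em)
  have ht : z1 * E.em a * z1⁻¹ ∈ TL L := hz1 _ ⟨a, Subgroup.mem_zpowers a, rfl⟩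
  set t := z1 * E.em a * z1⁻¹ with ht'
  set C := Subgroup.centralizer ({t} : Set ↥(chevF4.group L))
  have hTC : TL L ≤ C := fun x hx => Subgroup.mem_centralizer_iff.2 fun z hz => by
    rw [Set.mem_singleton_iff.1 hz]
    obtain ⟨c, hc⟩ := F4.ok.mem_diagonal_iff.1 (Subgroup.mem_subgroupOf.1 ht)
    obtain ⟨c', hc'⟩ := F4.ok.mem_diagonal_iff.1 (Subgroup.mem_subgroupOf.1 hx)
    apply Subtype.ext
    show (t : GL chevF4.Idx L) * (x : GL chevF4.Idx L) = (x : GL chevF4.Idx L) * t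
    rw [← hc, ← hc', ← map_mul, ← map_mul, mul_comm]
  have hidx : ¬ s ∣ ((TL L).subgroupOf C).index := fun h =>
    E.index_TL hQs hs (h.trans (Subgroup.relIndex_dvd_index_of_le hTC))
  have hw : z1 * E.em b * z1⁻¹ ∈ C := Subgroup.mem_centralizer_iff.2 fun z hz => by
    rw [Set.mem_singleton_iff.1 hz, ht']
    exact ((hab.map E.em).map (MulAut.conj z1).toMonoidHom).eq
  set w : C := ⟨_, hw⟩
  have hwo : orderOf w = s := by
    rw [← Subgroup.orderOf_coe]
    show orderOf (MulAut.conj z1 (E.em b)) = s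
    rw [MulEquiv.orderOf_eq, orderOf_injective E.em E.em_inj, hb]
  obtain ⟨z2, hz2⟩ := conj_into hidx (IsPGroup.of_card (n := 1) (by rw [Nat.card_zpowers, hwo, pow_one]) :
    IsPGroup s (Subgroup.zpowers w))
  have h2 := Subgroup.mem_subgroupOf.1 (hz2 w (Subgroup.mem_zpowers w))
  set z : ↥(chevF4.group L) := (z2 : ↥(chevF4.group L)) * z1
  have ha' : z * E.em a * z⁻¹ ∈ TL L := by
    have hc : t * (z2 : ↥(chevF4.group L)) = z2 * t := Subgroup.mem_centralizer_iff.1 z2.2 t (Set.mem_singleton _)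
    rw [show z * E.em a * z⁻¹ = (z2 : ↥(chevF4.group L)) * t * (z2 : ↥(chevF4.group L))⁻¹ by
      simp only [z, ht']; group, ← hc, mul_inv_cancel_right]
    exact ht
  have hb' : z * E.em b * z⁻¹ ∈ TL L := by
    rw [show z * E.em b * z⁻¹ = (z2 : ↥(chevF4.group L)) * (z1 * E.em b * z1⁻¹) * (z2 : ↥(chevF4.group L))⁻¹ by
      simp only [z]; group]
    exact h2
  obtain ⟨c, hc⟩ := F4.ok.mem_diagonal_iff.1 (Subgroup.mem_subgroupOf.1 ha')
  obtain ⟨c', hc'⟩ := F4.ok.mem_diagonal_iff.1 (Subgroup.mem_subgroupOf.1 hb')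
  refine ⟨((z⁻¹ : ↥(chevF4.group L)) : GL chevF4.Idx L), (z⁻¹).2, c, c', ?_, ?_⟩
  · rw [hc, ← E.coe_em]; simp only [Subgroup.coe_mul, Subgroup.coe_inv]; group
  · rw [hc', ← E.coe_em]; simp only [Subgroup.coe_mul, Subgroup.coe_inv]; group

/-- Facts about a prime with given multiplicative order of `q`. -/
structure PrimeE (q r e : ℕ) : Prop where
  prim : IsPrimitiveRoot (q : ZMod r) e
  dvd24 : e ∣ 24
  big : ¬ r ∣ 1152
  lt : e < r

theorem PrimeE.hQ {q r e : ℕ} (h : PrimeE q r e) : ((q ^ 24 : ℕ) : ZMod r) = 1 := by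
  rw [Nat.cast_pow]
  exact (h.prim.pow_eq_one_iff_dvd 24).2 h.dvd24

/-- One element and its exponents. -/
theorem Ext.exists_vec {r : ℕ} [Fact r.Prime] {Z : Multiplicative (ZMod r) →* Lˣ} (hZi : Function.Injective Z)
    (hZ : ∀ u : Lˣ, u ^ r = 1 → ∃ f : ZMod r, u = Z (Multiplicative.ofAdd f))
    {x : ↥(chevF4.group F)} (hx : orderOf x = r) {y : GL chevF4.Idx L} {c : Fin F4.pk.rank → Lˣ}
    (hc : gmap chevF4 E.ι x = y * F4.ok.hHom c * y⁻¹) {l : List ℕ} (hl : WordOk F4.pk l)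
    (hrel : Rel F4.pk l (Fintype.card F) c) :
    ∃ f : Fin F4.pk.rank → ZMod r, f ≠ 0 ∧
      (∀ s < F4.pk.nroots, hchar F4.pk c s = (Z (Multiplicative.ofAdd (dot F4.pk f s)) : L)) ∧
      tr F4.pk l f = (Fintype.card F : ZMod r) • f := by
  obtain ⟨f, hf⟩ := exponent_of_pow Z hZ (c := c) (by
    have h1 : gmap chevF4 E.ι (x : GL chevF4.Idx F) ^ r = 1 := by
      rw [← map_pow, ← SubgroupClass.coe_pow, ← hx, pow_orderOf_eq_one, OneMemClass.coe_one, map_one]
    rwa [hc, conj_pow, conj_eq_one_iff] at h1)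
  refine ⟨f, fun f0 => ?_, hf, (rel_iff_tr F4.ok hZi hl hf).1 hrel⟩
  have h1 : F4.ok.hHom c = 1 := by
    rw [← map_one (F4.ok.hHom (F := L))]
    refine hHom_ext_char F4.ok fun s hs => ?_
    rw [hf s hs, f0]
    simp [dot, hchar]
  have h2 : x = 1 := E.em_inj (Subtype.ext (by rw [E.coe_em, hc, h1, map_one]; simp))
  rw [h2, orderOf_one] at hx
  exact (Fact.out : r.Prime).one_lt.ne hx

theorem quad_facts {l : List ℕ} {e : ℕ} (he : e = 3 ∨ e = 4 ∨ e = 6)
    (h0 : Polynomial.aeval (WM F4.pk l) (Polynomial.cyclotomic e ℤ) = 0) {p : ℕ} [Fact p.Prime] {a : ZMod p}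
    (ha : IsPrimitiveRoot a e) :
    ∃ b : ZMod p, b ^ 2 ≠ 1 ∧
      (WM F4.pk l).map (Int.castRingHom (ZMod p)) * ((WM F4.pk l).map (Int.castRingHom (ZMod p)) - b • 1) =
        a • ((WM F4.pk l).map (Int.castRingHom (ZMod p)) - b • 1) := by
  have hne : a ^ 2 ≠ 1 := fun h => by
    have := Nat.le_of_dvd (by norm_num) ((ha.pow_eq_one_iff_dvd 2).1 h)
    omega
  obtain ⟨ε, hε⟩ : ∃ ε : ℤ, Polynomial.cyclotomic e ℤ = Polynomial.X ^ 2 + Polynomial.C ε * Polynomial.X + 1 := by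
    rcases he with rfl | rfl | rfl
    · exact ⟨1, by simp [Polynomial.cyclotomic_three]⟩
    · exact ⟨0, by rw [← lp_four]; simp [lp]; ring⟩
    · exact ⟨-1, by simp [Polynomial.cyclotomic_six, sub_eq_add_neg]⟩
  set M := (WM F4.pk l).map (Int.castRingHom (ZMod p)) with hM
  have haq : a ^ 2 + (ε : ZMod p) * a + 1 = 0 := by
    have h1 := ha.isRoot_cyclotomic (by omega)
    rw [← Polynomial.map_cyclotomic_int, hε] at h1
    simpa using h1
  have hMq : M ^ 2 + (ε : ZMod p) • M + 1 = 0 := by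
    have h1 := congrArg (Int.castRingHom (ZMod p)).mapMatrix h0
    rw [hε, map_zero] at h1
    simp only [map_add, map_mul, map_pow, Polynomial.aeval_X, Polynomial.aeval_C, map_one] at h1
    rw [← h1, Algebra.algebraMap_eq_smul_one, map_zsmul, map_one, smul_mul_assoc, one_mul,
      Int.cast_smul_eq_zsmul]
    rfl
  refine ⟨-(ε : ZMod p) - a, fun hb => hne ?_, ?_⟩
  · linear_combination -(a ^ 2 * hb) + (1 - (ε : ZMod p) * a - a ^ 2) * haq * (-1)
  · have hab : a * (-(ε : ZMod p) - a) = 1 := by linear_combination -haq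
    rw [mul_sub, Matrix.mul_smul, mul_one, smul_sub, smul_smul, hab, one_smul, ← pow_two]
    linear_combination (norm := module) hMq

include E in
/-- No element of order `r s` for two different orders among three, four and six. -/
theorem Ext.nonadj_pair {r s k m : ℕ} [Fact r.Prime] [Fact s.Prime]
    (hkm : (k = 3 ∧ m = 4) ∨ (k = 3 ∧ m = 6) ∨ (k = 4 ∧ m = 6))
    (hr : PrimeE (Fintype.card F) r k) (hs : PrimeE (Fintype.card F) s m) {a b : ↥(chevF4.group F)}
    (ha : orderOf a = r) (hb : orderOf b = s) (hab : Commute a b) : False := by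
  classical
  obtain ⟨y, hy, c, c', hc, hc'⟩ := E.to_torus_pair hr.hQ hs.hQ hr.big hs.big ha hb hab
  obtain ⟨l, hl, hrel, -⟩ := exists_weyl F4.ok ckComm_F4 E.σ E.sigma_hHom hy
  obtain ⟨Zr, hZri, hZr⟩ := E.exists_Z hr.hQ
  obtain ⟨Zs, hZsi, hZs⟩ := E.exists_Z hs.hQ
  obtain ⟨f, hf0, -, hf⟩ := E.exists_vec hZri hZr ha hc hl (hrel c (E.fix_of_em hc))
  obtain ⟨g, hg0, -, hg⟩ := E.exists_vec hZsi hZs hb hc' hl (hrel c' (E.fix_of_em hc'))
  obtain ⟨M, hM, hch, hsum⟩ := exists_L_list hl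
  have hkM := exists_cyclo_eigen hr.big hr.prim hf0 hf hM hch
  have hmM := exists_cyclo_eigen hs.big hs.prim hg0 hg hM hch
  have hkmne : k ≠ m := by omega
  have hp1 : M.Perm (k :: M.erase k) := List.perm_cons_erase hkM
  have hm2 : m ∈ M.erase k := (List.mem_erase_of_ne hkmne.symm).2 hmM
  have hp2 : M.Perm (k :: m :: (M.erase k).erase m) := hp1.trans ((List.perm_cons_erase hm2).cons k)
  have hnil : (M.erase k).erase m = [] := by
    have h1 := (hp2.map Nat.totient).sum_eq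
    rw [hsum, List.map_cons, List.map_cons, List.sum_cons, List.sum_cons,
      show k.totient = 2 by rcases hkm with ⟨rfl, rfl⟩ | ⟨rfl, rfl⟩ | ⟨rfl, rfl⟩ <;> decide,
      show m.totient = 2 by rcases hkm with ⟨rfl, rfl⟩ | ⟨rfl, rfl⟩ | ⟨rfl, rfl⟩ <;> decide] at h1
    refine List.eq_nil_iff_forall_not_mem.2 fun d hd => ?_
    have h2 := List.single_le_sum (l := ((M.erase k).erase m).map Nat.totient) (fun _ _ => Nat.zero_le _) _
      (List.mem_map.2 ⟨d, hd, rfl⟩)
    have h3 := Nat.totient_pos.2 (Nat.pos_of_dvd_of_pos (hM d (List.mem_of_mem_erase (List.mem_of_mem_erase hd)))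
      (by norm_num))
    omega
  have hprod : Polynomial.aeval (WM F4.pk l) (Polynomial.cyclotomic k ℤ * Polynomial.cyclotomic m ℤ) = 0 := by
    have h1 : (WM F4.pk l).charpoly = Polynomial.cyclotomic k ℤ * Polynomial.cyclotomic m ℤ := by
      rw [hch, (hp2.map _).prod_eq, hnil]; simp
    rw [← h1]
    exact Matrix.aeval_self_charpoly _
  rcases pair_table hl hkm hprod with h0 | h0
  · haveI : NeZero (k : ZMod s) := ⟨fun e0 => hs.big (by
      rw [ZMod.natCast_eq_zero_iff] at e0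
      exact e0.trans (by rcases hkm with ⟨rfl, -⟩ | ⟨rfl, -⟩ | ⟨rfl, -⟩ <;> norm_num))⟩
    have h1 := aeval_mulVec (WM F4.pk l) hg (Polynomial.cyclotomic k ℤ)
    rw [h0, Matrix.map_zero _ (map_zero _), Matrix.zero_mulVec, eq_comm, smul_eq_zero,
      Polynomial.map_cyclotomic_int] at h1
    exact hkmne ((Polynomial.isRoot_cyclotomic_iff.1 (h1.resolve_right hg0)).unique hs.prim)
  · haveI : NeZero (m : ZMod r) := ⟨fun e0 => hr.big (by
      rw [ZMod.natCast_eq_zero_iff] at e0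
      exact e0.trans (by rcases hkm with ⟨-, rfl⟩ | ⟨-, rfl⟩ | ⟨-, rfl⟩ <;> norm_num))⟩
    have h1 := aeval_mulVec (WM F4.pk l) hf (Polynomial.cyclotomic m ℤ)
    rw [h0, Matrix.map_zero _ (map_zero _), Matrix.zero_mulVec, eq_comm, smul_eq_zero,
      Polynomial.map_cyclotomic_int] at h1
    exact hkmne ((Polynomial.isRoot_cyclotomic_iff.1 (h1.resolve_right hf0)).unique hr.prim).symm

/-- What is known about an element of order `r` when `φ e = 4`. -/
theorem Ext.regular_data {r e : ℕ} [Fact r.Prime] (he : e = 8 ∨ e = 12) (hr : PrimeE (Fintype.card F) r e)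
    {x : ↥(chevF4.group F)} (hx : orderOf x = r) :
    ∃ y ∈ chevF4.group L, ∃ c, gmap chevF4 E.ι x = y * F4.ok.hHom c * y⁻¹ ∧
      (∀ g ∈ chevF4.group L, Commute g (F4.ok.hHom c) → g ∈ chevF4.diagonalSubgroup L) ∧
      ∃ l, WordOk F4.pk l ∧ (WM F4.pk l).charpoly = Polynomial.cyclotomic e ℤ ∧
        (∀ c', gmap chevF4 E.σ (y * F4.ok.hHom c' * y⁻¹) = y * F4.ok.hHom c' * y⁻¹ →
          Rel F4.pk l (Fintype.card F) c') ∧
        ∀ c', Rel F4.pk l (Fintype.card F) c' →
          gmap chevF4 E.σ (y * F4.ok.hHom c' * y⁻¹) = y * F4.ok.hHom c' * y⁻¹ := by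
  classical
  obtain ⟨y, hy, hS⟩ := E.to_torus hr.hQ hr.big
    (IsPGroup.of_card (n := 1) (by rw [Nat.card_zpowers, hx, pow_one]) : IsPGroup r (Subgroup.zpowers x))
  obtain ⟨c, hc⟩ := hS x (Subgroup.mem_zpowers x)
  obtain ⟨l, hl, hrel, hback⟩ := exists_weyl F4.ok ckComm_F4 E.σ E.sigma_hHom hy
  obtain ⟨Z, hZi, hZ⟩ := E.exists_Z hr.hQ
  obtain ⟨f, hf0, hf, hfe⟩ := E.exists_vec hZi hZ hx hc hl (hrel c (E.fix_of_em hc))
  have hrm : ¬ r ∣ e := fun h => hr.big (h.trans (by rcases he with rfl | rfl <;> norm_num))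
  obtain ⟨hch, hreg, hstab⟩ := regular_eigen F4.ok (m := e) (by omega) hrm
    (show 4 < r - 1 by have := hr.lt; omega)
    (show e.totient = 4 by rcases he with rfl | rfl <;> decide) hr.prim hf0 hl hfe
  have hcent : ∀ g ∈ chevF4.group L, Commute g (F4.ok.hHom c) → g ∈ chevF4.diagonalSubgroup L := by
    intro g hg hgc
    refine F4.ok.centralizer_of_stab ckComm_F4 c (fun s hs e1 => hreg s hs ?_) (fun l' hl' he' => hstab l' hl' ?_)
      hg hgc
    · refine Multiplicative.ofAdd.injective (hZi (Units.ext ?_))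
      rw [← hf s hs, e1]
      simp
    · funext k
      refine Multiplicative.ofAdd.injective (hZi (Units.ext ?_))
      rw [tr_apply, ← hf _ (F4.ok.wl_lt l' hl' _ (F4.ok.sim_lt k.isLt)), he' _ (F4.ok.sim_lt k.isLt),
        hf _ (F4.ok.sim_lt k.isLt), dot_sim F4.ok f k]
  exact ⟨y, hy, c, hc, hcent, l, hl, hch, hrel, hback Unit (fun _ => c) (fun _ => E.fix_of_em hc)
    fun g hg hgc => hcent g hg (hgc ())⟩

include E in
/-- The centraliser of an element of order `r` with `φ e = 4` has exponent dividing `Φ_e(q)`. -/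
theorem Ext.nonadj_regular {r s e : ℕ} [Fact r.Prime] (he : e = 8 ∨ e = 12)
    (hr : PrimeE (Fintype.card F) r e) {a b : ↥(chevF4.group F)} (ha : orderOf a = r) (hb : orderOf b = s)
    (hab : Commute a b) : s ∣ ((Polynomial.cyclotomic e ℤ).eval (Fintype.card F : ℤ)).natAbs := by
  classical
  obtain ⟨y, hy, c, hc, hcent, l, hl, hch, hrel, -⟩ := E.regular_data he hr ha
  obtain ⟨c', hc'⟩ := F4.ok.mem_diagonal_iff.1 (hcent (y⁻¹ * gmap chevF4 E.ι b * y)
    (mul_mem (mul_mem (inv_mem hy) (F4.ok.map_group_le E.ι ⟨_, b.2, rfl⟩)) hy) (by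
      have h1 := (hab.symm.map ((gmap chevF4 E.ι).comp (chevF4.group F).subtype)).map (MulAut.conj y⁻¹).toMonoidHom
      simp only [MulEquiv.toMonoidHom_eq_coe, MonoidHom.coe_coe, MonoidHom.comp_apply, Subgroup.coe_subtype,
        MulAut.conj_apply, inv_inv] at h1
      rwa [hc, show y⁻¹ * (y * F4.ok.hHom c * y⁻¹) * y = F4.ok.hHom c by group] at h1))
  have hb' : gmap chevF4 E.ι b = y * F4.ok.hHom c' * y⁻¹ := by rw [hc']; group
  set A := Fintype.card L - 1 with hA
  haveI : NeZero A := ⟨by have := Fintype.one_lt_card (α := L); omega⟩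
  obtain ⟨ζ, hζ⟩ := IsCyclic.exists_generator (α := Lˣ)
  have hζo : IsPrimitiveRoot ζ A := by
    rw [show A = orderOf ζ by rw [orderOf_eq_card_of_forall_mem_zpowers hζ, Nat.card_eq_fintype_card, Fintype.card_units]]
    exact IsPrimitiveRoot.orderOf ζ
  obtain ⟨Z, hZi, hZ⟩ := exists_zhom hζo
  have hcA : c' ^ A = 1 := funext fun i => by
    rw [Pi.pow_apply, hA, show Fintype.card L - 1 = Nat.card Lˣ by rw [Nat.card_eq_fintype_card, Fintype.card_units],
      pow_card_eq_one', Pi.one_apply]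
  obtain ⟨f, hf⟩ := exponent_of_pow Z hZ (c := c') (by rw [← map_pow, hcA, map_one])
  have hfe := (rel_iff_tr F4.ok hZi hl hf).1 (hrel c' (E.fix_of_em hb'))
  have h1 := aeval_mulVec (WM F4.pk l) hfe (WM F4.pk l).charpoly
  rw [Matrix.aeval_self_charpoly, Matrix.map_zero _ (map_zero _), Matrix.zero_mulVec, hch,
    show ((Fintype.card F : ℕ) : ZMod A) = Int.castRingHom (ZMod A) (Fintype.card F : ℤ) by simp,
    Polynomial.eval_map, Polynomial.eval₂_at_apply] at h1
  set N := ((Polynomial.cyclotomic e ℤ).eval (Fintype.card F : ℤ)).natAbs with hN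
  have h2 : (N : ZMod A) • f = 0 := by
    rcases Int.natAbs_eq ((Polynomial.cyclotomic e ℤ).eval (Fintype.card F : ℤ)) with e0 | e0 <;>
      rw [← hN] at e0 <;> rw [e0] at h1 <;> simpa [eq_comm] using h1
  have h3 : F4.ok.hHom c' ^ N = 1 := by
    rw [← map_pow, ← map_one (F4.ok.hHom (F := L))]
    refine hHom_ext_char F4.ok fun u hu => ?_
    rw [hchar_pow, hf u hu, ← Units.val_pow_eq_pow_val, ← map_pow, ← ofAdd_nsmul]
    have : N • dot F4.pk f u = 0 := by
      rw [nsmul_eq_mul, dot, Finset.mul_sum]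
      refine Finset.sum_eq_zero fun j _ => ?_
      have := congrFun h2 j
      rw [Pi.smul_apply, Pi.zero_apply, smul_eq_mul] at this
      rw [mul_left_comm, this, mul_zero]
    simp [this, hchar]
  rw [← hb]
  refine orderOf_dvd_of_pow_eq_one (E.em_inj (Subtype.ext ?_))
  rw [map_pow, map_one, SubgroupClass.coe_pow, E.coe_em, hb', conj_pow, h3]
  simp

/-- From an eigenvector modulo `s`, an element of order `s` commuting with the family. -/
theorem Ext.partner {s e : ℕ} [Fact s.Prime] (hs : PrimeE (Fintype.card F) s e) {y : GL chevF4.Idx L}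
    (hy : y ∈ chevF4.group L) {l : List ℕ} (hl : WordOk F4.pk l)
    (hback : ∀ c', Rel F4.pk l (Fintype.card F) c' →
      gmap chevF4 E.σ (y * F4.ok.hHom c' * y⁻¹) = y * F4.ok.hHom c' * y⁻¹)
    {v : Fin F4.pk.rank → ZMod s} (hv0 : v ≠ 0) (hv : tr F4.pk l v = (Fintype.card F : ZMod s) • v)
    {x : ↥(chevF4.group F)} {c : Fin F4.pk.rank → Lˣ} (hc : gmap chevF4 E.ι x = y * F4.ok.hHom c * y⁻¹) :
    ∃ w : ↥(chevF4.group F), orderOf w = s ∧ Commute x w := by
  classical
  obtain ⟨Z, hZi, -⟩ := E.exists_Z hs.hQ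
  obtain ⟨c', hc'⟩ := (simChar_bij F4.ok (hinj_F4 (L := L))).2 fun k => Z (Multiplicative.ofAdd (v k))
  have hf : ∀ u < F4.pk.nroots, hchar F4.pk c' u = (Z (Multiplicative.ofAdd (dot F4.pk v u)) : L) := fun u hu =>
    hchar_dot F4.ok Z c' v (fun k => congrFun hc' k) hu
  have hfix := hback c' ((rel_iff_tr F4.ok hZi hl hf).2 hv)
  obtain ⟨w, hw⟩ := E.descend
    (mul_mem (mul_mem hy (F4.ok.diagonal_le_group (F4.ok.mem_diagonal_iff.2 ⟨c', rfl⟩))) (inv_mem hy)) hfix
  refine ⟨w, orderOf_eq_prime (E.em_inj (Subtype.ext ?_)) fun h1 => hv0 (funext fun k => ?_), ?_⟩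
  · rw [map_pow, map_one, SubgroupClass.coe_pow, E.coe_em, hw, conj_pow, ← map_pow,
      hHom_ext_char F4.ok (c := c' ^ s) (c' := 1) fun u hu => by
        rw [hchar_pow, hf u hu, ← Units.val_pow_eq_pow_val, ← map_pow, ← ofAdd_nsmul]
        simp [hchar]]
    simp
  · have h2 : F4.ok.hHom c' = 1 := by
      rw [h1, OneMemClass.coe_one, map_one, eq_comm, conj_eq_one_iff] at hw
      exact hw
    refine Multiplicative.ofAdd.injective (hZi ?_)
    rw [← congrFun hc' k, hinj_F4 (h2.trans (map_one _).symm)]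
    simp [simChar]
  · refine E.em_inj ?_
    apply Subtype.ext
    rw [map_mul, map_mul, Subgroup.coe_mul, Subgroup.coe_mul, E.coe_em, E.coe_em, hc, hw]
    have hcom : F4.ok.hHom (F := L) c * F4.ok.hHom c' = F4.ok.hHom c' * F4.ok.hHom c := by
      rw [← map_mul, ← map_mul, mul_comm]
    rw [show y * F4.ok.hHom c * y⁻¹ * (y * F4.ok.hHom c' * y⁻¹) = y * (F4.ok.hHom c * F4.ok.hHom c') * y⁻¹ by group,
      hcom]
    group

include E in
/-- An element of order `r s` when both have the same `e` with `φ e = 4`. -/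
theorem Ext.adj_regular {r s e : ℕ} [Fact r.Prime] [Fact s.Prime] (he : e = 8 ∨ e = 12) (hrs : r ≠ s)
    (hr : PrimeE (Fintype.card F) r e) (hs : PrimeE (Fintype.card F) s e)
    (hrG : r ∣ Nat.card ↥(chevF4.group F)) : ∃ z : ↥(chevF4.group F), orderOf z = r * s := by
  classical
  obtain ⟨x, hx⟩ := exists_prime_orderOf_dvd_card' r hrG
  obtain ⟨y, hy, c, hc, -, l, hl, hch, -, hback⟩ := E.regular_data he hr hx
  haveI : NeZero (e : ZMod s) := ⟨fun e0 => by
    rw [ZMod.natCast_eq_zero_iff] at e0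
    exact hs.big (e0.trans (by rcases he with rfl | rfl <;> norm_num))⟩
  obtain ⟨v, hv0, hv⟩ := Matrix.exists_mulVec_eq_zero_iff.2
    (show (Matrix.scalar (Fin F4.pk.rank) (Fintype.card F : ZMod s) -
      (WM F4.pk l).map (Int.castRingHom (ZMod s))).det = 0 by
        rw [← Matrix.eval_charpoly, Matrix.charpoly_map, hch, Polynomial.map_cyclotomic_int]
        exact Polynomial.isRoot_cyclotomic_iff.2 hs.prim)
  rw [Matrix.sub_mulVec, sub_eq_zero, Matrix.scalar_apply, ← Matrix.smul_one_eq_diagonal, Matrix.smul_mulVec,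
    Matrix.one_mulVec] at hv
  obtain ⟨w, hw, hxw⟩ := E.partner hs hy hl hback hv0 hv.symm hc
  exact ⟨x * w, by rw [hxw.orderOf_mul_eq_mul_orderOf_of_coprime
    (by rw [hx, hw]; exact (Nat.coprime_primes Fact.out Fact.out).2 hrs), hx, hw]⟩

include E in
/-- An element of order `r s` when both have the same `e` among three, four and six. -/
theorem Ext.adj_quad {r s e : ℕ} [Fact r.Prime] [Fact s.Prime] (he : e = 3 ∨ e = 4 ∨ e = 6) (hrs : r ≠ s)
    (hr : PrimeE (Fintype.card F) r e) (hs : PrimeE (Fintype.card F) s e)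
    (hrG : r ∣ Nat.card ↥(chevF4.group F)) : ∃ z : ↥(chevF4.group F), orderOf z = r * s := by
  classical
  have hrp := (Fact.out : r.Prime)
  have hrq : ¬ r ∣ Fintype.card F := fun h => hr.prim.ne_zero (by omega) ((ZMod.natCast_eq_zero_iff _ _).2 h)
  have hord : orderOf ((Fintype.card F : ℕ) : ZMod r) = e := hr.prim.eq_orderOf.symm
  obtain ⟨S⟩ : Nonempty (Sylow r ↥(chevF4.group F)) := inferInstance
  obtain ⟨eS⟩ := HomSylow.sylow_homocyclic F4.ok ckComm_F4 (J := [3, 2, 1, 0]) (by decide) ckOrb_F4 poinP_F4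
    (by decide) smith_F4 (by decide +kernel) HomSylow.good_F4 rfl hrq (by rw [wl_prod]; exact hr.big) hrG S
  obtain ⟨v, hv, emb, hemb⟩ : ∃ v, 0 < v ∧ ∃ emb : (Fin 2 → ZMod r) →
      {x : ↥(S : Subgroup ↥(chevF4.group F)) // x ^ r = 1}, Function.Injective emb := by
    set v := padicValNat r ((Polynomial.cyclotomic (orderOf ((Fintype.card F : ℕ) : ZMod r)) ℤ).eval
      (Fintype.card F : ℤ)).natAbs with hvdef
    have hv : 0 < v := by
      refine one_le_padicValNat_of_dvd ?_ ?_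
      · rw [Int.natAbs_ne_zero, hord]
        intro h0
        have h1 := Polynomial.eval_dvd (x := (Fintype.card F : ℤ)) (Polynomial.cyclotomic.dvd_X_pow_sub_one e ℤ)
        rw [h0, zero_dvd_iff] at h1
        simp only [Polynomial.eval_sub, Polynomial.eval_pow, Polynomial.eval_X, Polynomial.eval_one, sub_eq_zero] at h1
        have := Nat.one_lt_pow (show e ≠ 0 by omega) (Fintype.one_lt_card (α := F))
        norm_cast at h1
        omega
      · rw [← Int.natCast_dvd, ← ZMod.intCast_zmod_eq_zero_iff_dvd, hord]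
        haveI : NeZero (e : ZMod r) := ⟨fun e0 => by
          rw [ZMod.natCast_eq_zero_iff] at e0
          exact hr.big (e0.trans (by rcases he with rfl | rfl | rfl <;> norm_num))⟩
        have h1 : Polynomial.IsRoot (Polynomial.cyclotomic e (ZMod r)) ((Fintype.card F : ℕ) : ZMod r) :=
          Polynomial.isRoot_cyclotomic_iff.2 hr.prim
        rw [← Polynomial.map_cyclotomic_int, Polynomial.IsRoot,
          show ((Fintype.card F : ℕ) : ZMod r) = Int.castRingHom (ZMod r) (Fintype.card F : ℤ) by simp,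
          Polynomial.eval_map, Polynomial.eval₂_at_apply] at h1
        exact h1
    have ha2 : HomSylow.aInv [2, 6, 8, 12] (orderOf ((Fintype.card F : ℕ) : ZMod r)) = 2 := by
      rw [hord]; rcases he with rfl | rfl | rfl <;> decide
    let el : (Fin 2 → ZMod r) → (Fin (HomSylow.aInv [2, 6, 8, 12] (orderOf ((Fintype.card F : ℕ) : ZMod r))) →
        Multiplicative (ZMod (r ^ v))) :=
      fun t i => Multiplicative.ofAdd (((t (Fin.cast ha2 i)).val * r ^ (v - 1) : ℕ) : ZMod (r ^ v))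
    have hpow : r ^ v = r * r ^ (v - 1) := by rw [← pow_succ', show v - 1 + 1 = v by omega]
    have hel : ∀ t, el t ^ r = 1 := fun t => funext fun i => by
      rw [Pi.pow_apply, Pi.one_apply, ← ofAdd_nsmul, ofAdd_eq_one, nsmul_eq_mul, ← Nat.cast_mul,
        ZMod.natCast_eq_zero_iff, hpow]
      exact ⟨(t (Fin.cast ha2 i)).val, by ring⟩
    refine ⟨v, hv, fun t => ⟨eS.symm (el t), by rw [← map_pow, hel, map_one]⟩, fun t t' h => ?_⟩
    have h1 := eS.symm.injective (congrArg Subtype.val h)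
    funext i
    have h2 := Multiplicative.ofAdd.injective (congrFun h1 (Fin.cast ha2.symm i))
    rw [show Fin.cast ha2 (Fin.cast ha2.symm i) = i from rfl] at h2
    have hlt : ∀ z : ZMod r, z.val * r ^ (v - 1) < r ^ v := fun z => by
      rw [hpow]; exact Nat.mul_lt_mul_of_pos_right (ZMod.val_lt z) (pow_pos hrp.pos _)
    rw [ZMod.natCast_eq_natCast_iff', Nat.mod_eq_of_lt (hlt _), Nat.mod_eq_of_lt (hlt _)] at h2
    exact ZMod.val_injective _ (Nat.eq_of_mul_eq_mul_right (pow_pos hrp.pos _) h2)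
  obtain ⟨y, hy, hS⟩ := E.to_torus hr.hQ hr.big S.isPGroup'
  choose c hc using fun x : ↥(S : Subgroup ↥(chevF4.group F)) => hS x x.2
  obtain ⟨l, hl, hrel, hback⟩ := exists_weyl F4.ok ckComm_F4 E.σ E.sigma_hHom hy
  obtain ⟨Z, hZi, hZ⟩ := E.exists_Z hr.hQ
  let τ := {x : ↥(S : Subgroup ↥(chevF4.group F)) // x ^ r = 1}
  have hτ : ∀ x : τ, F4.ok.hHom (c x.1) ^ r = 1 := fun x => by
    have h1 : gmap chevF4 E.ι ((x.1 : ↥(chevF4.group F)) : GL chevF4.Idx F) ^ r = 1 := by
      rw [← map_pow, ← SubgroupClass.coe_pow, ← SubgroupClass.coe_pow, x.2, OneMemClass.coe_one,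
        OneMemClass.coe_one, map_one]
    rwa [hc x.1, conj_pow, conj_eq_one_iff] at h1
  choose f hf using fun x : τ => exponent_of_pow Z hZ (hτ x)
  have hfe : ∀ x : τ, tr F4.pk l (f x) = (Fintype.card F : ZMod r) • f x := fun x =>
    (rel_iff_tr F4.ok hZi hl (hf x)).1 (hrel _ (E.fix_of_em (hc x.1)))
  let eig := {w : Fin F4.pk.rank → ZMod r //
    (WM F4.pk l).map (Int.castRingHom (ZMod r)) *ᵥ w = (Fintype.card F : ZMod r) • w}
  let fe : τ → eig := fun x => ⟨f x, hfe x⟩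
  have hfinj : Function.Injective fe := fun x x' e1 => by
    have e2 : f x = f x' := congrArg Subtype.val e1
    refine Subtype.ext (Subtype.ext (Subtype.ext (gmap_injective E.ι ?_)))
    rw [hc x.1, hc x'.1, hHom_ext_char F4.ok (c := c x.1) (c' := c x'.1) fun u hu => by rw [hf x u hu, hf x' u hu, e2]]
  obtain ⟨k, hk1, hk2, hk3, -⟩ := HomSylow.eigen_bound (by norm_num) (WM_ord hl) hr.big (by omega)
    (fun h => hr.big (h.trans (by rcases he with rfl | rfl | rfl <;> norm_num))) hr.prim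
  have hφ : e.totient = 2 := by rcases he with rfl | rfl | rfl <;> decide
  have hcτ : r ^ 2 ≤ Nat.card τ := by
    have := Nat.card_le_card_of_injective emb hemb
    rwa [Nat.card_fun, Nat.card_zmod, Nat.card_eq_fintype_card (α := Fin 2), Fintype.card_fin] at this
  have hcf : Nat.card τ ≤ Nat.card eig := Nat.card_le_card_of_injective fe hfinj
  have hkge : 2 ≤ k := (Nat.pow_le_pow_iff_right hrp.one_lt).1 ((hcτ.trans hcf).trans hk1)
  change k * e.totient ≤ 4 at hk2
  rw [hφ] at hk2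
  obtain rfl : k = 2 := by omega
  have h0 := hk3 (by norm_num) (by rw [hφ]; rfl)
  have hfsurj : Function.Surjective fe := (hfinj.bijective_of_nat_card_le (hk1.trans hcτ)).2
  obtain ⟨b, hb, hMb⟩ := quad_facts he h0 hr.prim
  have hr2 : r ≠ 2 := fun h => hr.big (by rw [h]; norm_num)
  have hreg : ∀ β < F4.pk.nroots, ∃ x : τ, dot F4.pk (f x) β ≠ 0 := by
    intro β hβ
    by_contra hall
    simp only [not_exists, not_not] at hall
    refine hb (no_scalar hr2 hl hβ fun j hj => ?_)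
    set Mr := (WM F4.pk l).map (Int.castRingHom (ZMod r))
    obtain ⟨x, hx⟩ := hfsurj ⟨(Mr - b • 1) *ᵥ Pi.single ⟨j, hj⟩ 1, by
      rw [Matrix.mulVec_mulVec, hMb, Matrix.smul_mulVec]⟩
    have h1 := hall x
    rw [show f x = _ from congrArg Subtype.val hx, dot] at h1
    simp only [Matrix.mulVec_single_one, Matrix.col_apply, Matrix.sub_apply, Matrix.smul_apply, Matrix.one_apply,
      smul_eq_mul, mul_sub, Finset.sum_sub_distrib, mul_ite, mul_one, mul_zero, Finset.sum_ite_eq',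
      Finset.mem_univ, if_true, sub_eq_zero] at h1
    rw [mul_comm b, ← h1, F4.ok.rv_wl l hl β hβ j hj, Int.cast_sum,
      ← Fin.sum_univ_eq_sum_range (fun k => ((F4.pk.rv β k * F4.pk.rv (wl F4.pk l (F4.pk.sim k)) j : ℤ) : ZMod r))]
    exact Finset.sum_congr rfl fun k _ => by rw [Int.cast_mul]; rfl
  haveI : Fintype τ := Fintype.ofFinite _
  let idx := (Fintype.equivFin τ).symm
  have hcent : ∀ g ∈ chevF4.group L, (∀ x : Fin (Fintype.card τ), Commute g (F4.ok.hHom (c (idx x).1))) →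
      g ∈ chevF4.diagonalSubgroup L := by
    intro g hg hgc
    refine centralizer_of_family F4.ok ckComm_F4 _ (fun u hu => ?_) (fun l' hl' he' => ?_) hg hgc
    · obtain ⟨x, hx⟩ := hreg u hu
      refine ⟨idx.symm x, fun e1 => hx (Multiplicative.ofAdd.injective (hZi (Units.ext ?_)))⟩
      rw [Equiv.apply_symm_apply] at e1
      rw [← hf x u hu, e1]
      simp
    · refine stab_trivial F4.ok (o := 1152) (by norm_num) hr.big (fun j => f (idx j)) (fun β hβ => ?_) hl'
        (WM_ord hl') fun j => funext fun k => ?_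
      · obtain ⟨x, hx⟩ := hreg β hβ
        exact ⟨idx.symm x, by simpa using hx⟩
      · refine Multiplicative.ofAdd.injective (hZi (Units.ext ?_))
        rw [tr_apply, ← hf _ _ (F4.ok.wl_lt l' hl' _ (F4.ok.sim_lt k.isLt)), he' j _ (F4.ok.sim_lt k.isLt),
          hf _ _ (F4.ok.sim_lt k.isLt), dot_sim F4.ok _ k]
  obtain ⟨b', hb', hMb'⟩ := quad_facts he h0 hs.prim
  set Ms := (WM F4.pk l).map (Int.castRingHom (ZMod s))
  have hs2 : s ≠ 2 := fun h => hs.big (by rw [h]; norm_num)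
  obtain ⟨j, hj⟩ : ∃ j, (Ms - b' • 1) *ᵥ Pi.single j 1 ≠ 0 := by
    by_contra hall
    simp only [not_exists, not_not] at hall
    refine hb' (no_scalar hs2 hl (r := F4.pk.sim 0) (F4.ok.sim_lt (by decide)) fun j hj => ?_)
    have h1 := congrFun (hall ⟨j, hj⟩) ⟨0, by decide⟩
    simp only [Matrix.mulVec_single_one, Matrix.col_apply, Matrix.sub_apply, Matrix.smul_apply, Matrix.one_apply,
      smul_eq_mul, Pi.zero_apply, sub_eq_zero] at h1
    rw [F4.ok.rv_sim (by decide) hj]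
    refine h1.trans ?_
    simp [Fin.ext_iff]
  obtain ⟨x0, hx0⟩ := exists_prime_orderOf_dvd_card' (G := ↥(S : Subgroup ↥(chevF4.group F))) r (by
    rw [Sylow.card_eq_multiplicity]
    exact dvd_pow_self r (hrp.factorization_pos_of_dvd Nat.card_pos.ne' hrG).ne')
  obtain ⟨w, hw, hxw⟩ := E.partner hs hy hl (hback _ (fun x => c (idx x).1) (fun x => E.fix_of_em (hc _)) hcent)
    hj (by rw [tr, Matrix.mulVec_mulVec, hMb', Matrix.smul_mulVec]) (hc x0)
  rw [← Subgroup.orderOf_coe] at hx0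
  exact ⟨(x0 : ↥(chevF4.group F)) * w, by rw [hxw.orderOf_mul_eq_mul_orderOf_of_coprime
    (by rw [hx0, hw]; exact (Nat.coprime_primes Fact.out Fact.out).2 hrs), hx0, hw]⟩

end Cfsg.Agent.Chev.F4Graph
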