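import Cfsg.Agent.Lib.AltSection.WeylF4
import Cfsg.Agent.Lib.Chev.CyclTorus.Weyl
import Cfsg.Agent.Lib.Chev.AllC
import Cfsg.Agent.Lib.Chev.AllW
import Cfsg.Agent.Lib.Chev.TwistStd
import Mathlib.RingTheory.Polynomial.Cyclotomic.Expand

/-!
Tables for the prime graph of `F₄`: no Weyl element has characteristic polynomial a product of two different
cyclotomic polynomials of orders three, four and six; the lengths of roots; commuting root groups.
-/

set_option autoImplicit false
set_option maxRecDepth 20000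
set_option maxHeartbeats 1000000

namespace Cfsg.Agent.Chev.F4Graph

open Cfsg.Agent.Chev Cfsg.Agent.Chev.CyclTorus Cfsg.Agent.AltSection

/-- The value of a polynomial in a map of roots, at a root. -/
def pv (f : ℕ → ℕ) : List ℤ → ℕ → ℕ → ℤ
  | [], _, _ => 0
  | a :: p, s, i => a * F4.pk.rv s i + pv f p (f s) i

/-- The polynomial with given coefficients. -/
noncomputable def lp : List ℤ → Polynomial ℤ
  | [] => 0
  | a :: p => Polynomial.C a + Polynomial.X * lp p

/-- The polynomial kills every simple root. -/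
def killed (f : ℕ → ℕ) (p : List ℤ) : Bool :=
  (List.range 4).all fun j => (List.range 4).all fun i => decide (pv f p (F4.pk.sim j) i = 0)

/-- The three pairs. -/
def trip : List (List ℤ × List ℤ × List ℤ) :=
  [([1, 1, 2, 1, 1], [1, 1, 1], [1, 0, 1]), ([1, 0, 1, 0, 1], [1, 1, 1], [1, -1, 1]),
    ([1, -1, 2, -1, 1], [1, 0, 1], [1, -1, 1])]

/-- The test on one element. -/
def okPair (c : ℕ) : Bool :=
  trip.all fun t => !(killed (WeylF4.byte c) t.1) || killed (WeylF4.byte c) t.2.1 || killed (WeylF4.byte c) t.2.2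

theorem okPair0 : WeylF4.part0.toList.all okPair = true := by decide +kernel
theorem okPair1 : WeylF4.part1.toList.all okPair = true := by decide +kernel
theorem okPair2 : WeylF4.part2.toList.all okPair = true := by decide +kernel
theorem okPair3 : WeylF4.part3.toList.all okPair = true := by decide +kernel
theorem okPair4 : WeylF4.part4.toList.all okPair = true := by decide +kernel
theorem okPair5 : WeylF4.part5.toList.all okPair = true := by decide +kernel
theorem okPair6 : WeylF4.part6.toList.all okPair = true := by decide +kernel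
theorem okPair7 : WeylF4.part7.toList.all okPair = true := by decide +kernel

theorem okPair_mem {c : ℕ} (h : (WeylF4.part c).mem c = true) : okPair c = true := by
  unfold WeylF4.part at h
  simp only [cond_eq_ite, Bool.cond_eq_ite] at h
  split_ifs at h
  · exact List.all_eq_true.1 okPair0 c (KTree.mem_toList h)
  · exact List.all_eq_true.1 okPair1 c (KTree.mem_toList h)
  · exact List.all_eq_true.1 okPair2 c (KTree.mem_toList h)
  · exact List.all_eq_true.1 okPair3 c (KTree.mem_toList h)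
  · exact List.all_eq_true.1 okPair4 c (KTree.mem_toList h)
  · exact List.all_eq_true.1 okPair5 c (KTree.mem_toList h)
  · exact List.all_eq_true.1 okPair6 c (KTree.mem_toList h)
  · exact List.all_eq_true.1 okPair7 c (KTree.mem_toList h)

open scoped Matrix in
theorem row_aeval {l : List ℕ} (hl : WordOk F4.pk l) : ∀ (p : List ℤ) (s : ℕ), s < 48 → ∀ i : Fin F4.pk.rank,
    ((fun j : Fin F4.pk.rank => F4.pk.rv s j) ᵥ* Polynomial.aeval (WM F4.pk l) (lp p)) i = pv (wl F4.pk l) p s i
  | [], s, _, i => by simp [lp, pv]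
  | a :: p, s, hs, i => by
    have hlt : wl F4.pk l s < 48 := F4.ok.wl_lt l hl s hs
    have e : (fun j : Fin F4.pk.rank => F4.pk.rv s j) ᵥ* WM F4.pk l =
        fun j : Fin F4.pk.rank => F4.pk.rv (wl F4.pk l s) j := by
      funext j
      rw [F4.ok.rv_wl l hl s hs j j.isLt, Matrix.vecMul, dotProduct,
        ← Fin.sum_univ_eq_sum_range (fun k => F4.pk.rv s k * F4.pk.rv (wl F4.pk l (F4.pk.sim k)) j)]
      rfl
    rw [lp, map_add, map_mul, Polynomial.aeval_C, Polynomial.aeval_X, Algebra.algebraMap_eq_smul_one,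
      Matrix.vecMul_add, ← Matrix.vecMul_vecMul, e, Matrix.vecMul_smul, Matrix.vecMul_one, Pi.add_apply,
      Pi.smul_apply, smul_eq_mul, row_aeval hl p _ hlt i]
    rfl

theorem pv_congr {f g : ℕ → ℕ} (h : ∀ r < 48, f r = g r) (hlt : ∀ r < 48, f r < 48) :
    ∀ (p : List ℤ) (s : ℕ), s < 48 → ∀ i, pv f p s i = pv g p s i
  | [], _, _, _ => rfl
  | a :: p, s, hs, i => by rw [pv, pv, pv_congr h hlt p _ (hlt s hs) i, h s hs]

open scoped Matrix in
theorem killed_iff {l : List ℕ} (hl : WordOk F4.pk l) {c : ℕ} (hcr : ∀ r < 48, wl F4.pk l r = WeylF4.byte c r)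
    (p : List ℤ) : killed (WeylF4.byte c) p = true ↔ Polynomial.aeval (WM F4.pk l) (lp p) = 0 := by
  have hlt : ∀ r < 48, wl F4.pk l r < 48 := fun r hr => F4.ok.wl_lt l hl r hr
  have key : ∀ j i : Fin F4.pk.rank,
      (Polynomial.aeval (WM F4.pk l) (lp p)) j i = pv (WeylF4.byte c) p (F4.pk.sim j) i := fun j i => by
    rw [← pv_congr hcr hlt p _ (F4.ok.sim_lt j.isLt), ← row_aeval hl p _ (F4.ok.sim_lt j.isLt)]
    have e : (fun k : Fin F4.pk.rank => F4.pk.rv (F4.pk.sim j) k) = Pi.single j 1 := by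
      funext k
      rw [F4.ok.rv_sim j.isLt k.isLt, Pi.single_apply]
      simp [Fin.ext_iff, eq_comm]
    rw [e, Matrix.single_one_vecMul]
    rfl
  simp only [killed, List.all_eq_true, List.mem_range, decide_eq_true_eq]
  constructor
  · intro h
    ext j i
    rw [key, h j j.isLt i i.isLt, Matrix.zero_apply]
  · intro h j hj i hi
    rw [← key ⟨j, hj⟩ ⟨i, hi⟩, h, Matrix.zero_apply]

theorem lp_three : lp [1, 1, 1] = Polynomial.cyclotomic 3 ℤ := by
  simp [lp, Polynomial.cyclotomic_three]; ring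

theorem lp_four : lp [1, 0, 1] = Polynomial.cyclotomic 4 ℤ := by
  rw [show (4 : ℕ) = 2 ^ (1 + 1) from rfl, Polynomial.cyclotomic_prime_pow_eq_geom_sum Nat.prime_two]
  simp [lp, Finset.sum_range_succ]; ring

theorem lp_six : lp [1, -1, 1] = Polynomial.cyclotomic 6 ℤ := by
  simp [lp, Polynomial.cyclotomic_six]; ring

/-- No Weyl element is killed by the product and by neither factor. -/
theorem pair_table {l : List ℕ} (hl : WordOk F4.pk l) {k m : ℕ}
    (hkm : (k = 3 ∧ m = 4) ∨ (k = 3 ∧ m = 6) ∨ (k = 4 ∧ m = 6))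
    (h0 : Polynomial.aeval (WM F4.pk l) (Polynomial.cyclotomic k ℤ * Polynomial.cyclotomic m ℤ) = 0) :
    Polynomial.aeval (WM F4.pk l) (Polynomial.cyclotomic k ℤ) = 0 ∨
      Polynomial.aeval (WM F4.pk l) (Polynomial.cyclotomic m ℤ) = 0 := by
  obtain ⟨c, hc, hcr⟩ := WeylF4.exists_code l hl
  have h := okPair_mem hc
  simp only [okPair, trip, List.all_cons, List.all_nil, Bool.and_true, Bool.and_eq_true, Bool.or_eq_true,
    Bool.not_eq_true', ← Bool.not_eq_true, killed_iff hl hcr, lp_three, lp_four, lp_six] at h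
  have e34 : lp [1, 1, 2, 1, 1] = lp [1, 1, 1] * lp [1, 0, 1] := by simp [lp]; ring
  have e36 : lp [1, 0, 1, 0, 1] = lp [1, 1, 1] * lp [1, -1, 1] := by simp [lp]; ring
  have e46 : lp [1, -1, 2, -1, 1] = lp [1, 0, 1] * lp [1, -1, 1] := by simp [lp]; ring
  rw [e34, e36, e46, lp_three, lp_four, lp_six] at h
  rcases hkm with ⟨rfl, rfl⟩ | ⟨rfl, rfl⟩ | ⟨rfl, rfl⟩
  · exact h.1.elim (fun h' => h'.elim (fun e => absurd h0 e) Or.inl) Or.inr
  · exact h.2.1.elim (fun h' => h'.elim (fun e => absurd h0 e) Or.inl) Or.inr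
  · exact h.2.2.elim (fun h' => h'.elim (fun e => absurd h0 e) Or.inl) Or.inr

/-- Twice the squared length of a root, up to normalisation. -/
def nrm (r : ℕ) : ℤ :=
  ((List.range 4).map fun i => ((List.range 4).map fun j =>
    [1, 1, 2, 2].getD i 0 * F4.pk.rv r i * F4.pk.A i (F4.pk.sim j) * F4.pk.rv r j).sum).sum

theorem nrm_table : (∀ i < 4, ∀ r < 48, nrm (F4.pk.w i r) = nrm r) ∧ ∀ r < 48, nrm r = 2 ∨ nrm r = 4 := by
  decide +kernel

theorem nrm_wl : ∀ l, WordOk F4.pk l → ∀ r < 48, nrm (wl F4.pk l r) = nrm r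
  | [], _, _, _ => rfl
  | i :: l, hl, r, hr => by
    show nrm (F4.pk.w i (wl F4.pk l r)) = _
    rw [nrm_table.1 i (hl i (List.mem_cons_self ..)) _ (F4.ok.wl_lt l hl.tail r hr), nrm_wl l hl.tail r hr]

/-- A root and its image differ by a scalar modulo an odd prime only if the scalar is `± 1`. -/
theorem no_scalar {p : ℕ} [Fact p.Prime] (hp : p ≠ 2) {l : List ℕ} (hl : WordOk F4.pk l) {r : ℕ} (hr : r < 48)
    {b : ZMod p} (e : ∀ j < 4, ((F4.pk.rv (wl F4.pk l r) j : ℤ) : ZMod p) = b * (F4.pk.rv r j : ℤ)) : b ^ 2 = 1 := by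
  have h1 : ((nrm (wl F4.pk l r) : ℤ) : ZMod p) = b ^ 2 * (nrm r : ℤ) := by
    simp [nrm, List.range_succ, e 0 (by norm_num), e 1 (by norm_num), e 2 (by norm_num), e 3 (by norm_num)]
    ring
  rw [nrm_wl l hl r hr] at h1
  have h2 : (b ^ 2 - 1) * ((nrm r : ℤ) : ZMod p) = 0 := by linear_combination -h1
  refine sub_eq_zero.1 ((mul_eq_zero.1 h2).resolve_right fun h0 => ?_)
  rw [ZMod.intCast_zmod_eq_zero_iff_dvd] at h0
  have hpp : p.Prime := Fact.out
  rcases nrm_table.2 r hr with e2 | e2 <;> rw [e2] at h0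
  · exact hp ((Nat.prime_dvd_prime_iff_eq hpp Nat.prime_two).1 (by exact_mod_cast h0))
  · have h4 : p ∣ 2 ^ 2 := by exact_mod_cast h0
    exact hp ((Nat.prime_dvd_prime_iff_eq hpp Nat.prime_two).1 (hpp.dvd_of_dvd_pow h4))

/-- The roots in the span of the last simple root, moved to the highest root, and those of the orthogonal
subsystem. -/
theorem small_roots : (∀ r < 48, inJ F4.pk [3] r = true → wl F4.pk [3, 2, 1, 2, 0, 1, 2] r ∈ ([47, 0] : List ℕ)) ∧
    (∀ a ∈ ([47, 0] : List ℕ), ∀ b < 48, inJ F4.pk [0, 1, 2] b = true → ckOrth F4.pk a b = true) ∧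
    F4.pk.rv 47 0 = 2 ∧ F4.pk.rv 47 1 = 4 ∧ F4.pk.rv 47 2 = 3 ∧ F4.pk.rv 47 3 = 2 ∧
    F4.pk.ng 47 = 0 := by
  decide +kernel

theorem poin_small : F4.pk.ckOrb [3] = true ∧ F4.pk.poinP [3] = pgeom [2] ∧
    F4.pk.ckOrb [2, 1, 0] = true ∧ F4.pk.poinP [2, 1, 0] = pgeom [2, 4, 6] := by decide +kernel

end Cfsg.Agent.Chev.F4Graph
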