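import Cfsg.Agent.Lib.Chev.F4Graph.Parabolic
import Cfsg.Agent.Lib.Chev.F4Graph.Tables
import Cfsg.Agent.Lib.Chev.F4Graph.Torus
import Cfsg.Agent.Lib.Chev.Smith

/-!
Commuting elements of prime orders inside a long root subgroup and the orthogonal subsystem, or the torus.
-/

set_option autoImplicit false
set_option maxRecDepth 20000

namespace Cfsg.Agent.Chev.F4Graph

open Cfsg.Lie Cfsg.Agent.Chev Cfsg.Agent.Chev.CyclTorus

variable {F : Type*} [Field F] [Fintype F]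

theorem hinj_F4 {L : Type*} [Field L] [Fintype L] : Function.Injective (F4.ok.hHom (F := L)) :=
  F4.ok.hHom_injective smith_F4 (by decide +kernel)

theorem order_F4 : Nat.card ↥(chevF4.group F) =
    Fintype.card F ^ 24 * (([2, 6, 8, 12] : List ℕ).map fun d => Fintype.card F ^ d - 1).prod := by
  have h := F4.ok.order_formula (F := F) ckComm_F4 (J := [3, 2, 1, 0]) (by decide) ckOrb_F4 poinP_F4 (by decide) smith_F4
  rw [show F4.pk.nroots / 2 = 24 from by decide] at h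
  rw [← h, show F4.pk.rank = 4 from rfl]
  simp [List.range_succ]

theorem diag_dvd : Nat.card (chevF4.diagonalSubgroup F) ∣ (Fintype.card F - 1) ^ 4 := by
  have h := F4.ok.card_diagonal (F := F) smith_F4
  rw [show F4.pk.rank = 4 from rfl] at h
  exact ⟨_, h.symm⟩

theorem exists_elt {G : Type*} [Group G] (H : Subgroup G) [Finite H] {s : ℕ} [Fact s.Prime]
    (hd : s ∣ Nat.card H) : ∃ x ∈ H, orderOf x = s := by
  obtain ⟨x, hx⟩ := exists_prime_orderOf_dvd_card' s hd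
  exact ⟨x, x.2, by rw [Subgroup.orderOf_coe, hx]⟩

theorem dvd_poin {J : List ℕ} {ds : List ℕ} {q s : ℕ} (hs : s.Prime) (hq : 1 ≤ q) (hs1 : ¬ s ∣ q - 1)
    {e : ℕ} (hd : ∃ d ∈ ds, e ∣ d) (he : s ∣ q ^ e - 1) (hp : F4.pk.poinP J = pgeom ds) (hO : F4.pk.ckOrb J = true) :
    s ∣ poin F4.pk J q := by
  rw [F4.ok.poin_eq J hO, hp]
  obtain ⟨d, hdm, k, rfl⟩ := hd
  have h1 : s ∣ (ds.map fun d => q ^ d - 1).prod := by
    refine dvd_trans (he.trans ?_) (List.dvd_prod (List.mem_map.2 ⟨_, hdm, rfl⟩))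
    rw [pow_mul]
    simpa using Nat.sub_dvd_pow_sub_pow (q ^ e) 1 k
  rw [← pev_pgeom q hq ds] at h1
  exact ((hs.dvd_mul.1 h1).resolve_right fun h => hs1 (hs.dvd_of_dvd_pow h))

/-- The long root subgroups. -/
noncomputable def gA (F : Type*) [Field F] : Subgroup (GL chevF4.Idx F) :=
  F4.ok.genR fun r => r ∈ ([47, 0] : List ℕ)

/-- The orthogonal subsystem. -/
noncomputable def gB (F : Type*) [Field F] : Subgroup (GL chevF4.Idx F) :=
  F4.ok.genR (InJ F4.pk (↑([2, 1, 0] : List ℕ).toFinset : Set ℕ))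

theorem gA_le : gA F ≤ chevF4.group F := F4.ok.genR_le fun r _ t => F4.ok.mem_group_of_xG r t

theorem gB_le : gB F ≤ chevF4.group F := F4.ok.genR_le fun r _ t => F4.ok.mem_group_of_xG r t

theorem inJ_of_InJ {J : List ℕ} {r : ℕ} (hr : InJ F4.pk (↑J.toFinset : Set ℕ) r) : inJ F4.pk J r = true :=
  inJ_iff.2 fun m hm hmJ => hr.2 m hm fun e => hmJ (by simpa using e)

theorem commute_gAB {a b : GL chevF4.Idx F} (ha : a ∈ gA F) (hb : b ∈ gB F) : Commute a b := by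
  have h1 : gA F ≤ Subgroup.centralizer (gB F : Set (GL chevF4.Idx F)) := by
    refine F4.ok.genR_le fun r hr t => Subgroup.mem_centralizer_iff.2 fun y hy => ?_
    have h2 : gB F ≤ Subgroup.centralizer {F4.ok.xG r t} := by
      refine F4.ok.genR_le fun s hs u => Subgroup.mem_centralizer_iff.2 fun z hz => ?_
      rw [Set.mem_singleton_iff.1 hz]
      refine F4.ok.commute_xG ckComm_F4 (small_roots.2.1 r hr s hs.1 ?_) t u
      exact inJ_iff.2 fun m hm hmJ => hs.2 m hm fun e => hmJ (by simp at e ⊢; omega)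
    exact (Subgroup.mem_centralizer_iff.1 (h2 hy) _ (Set.mem_singleton _)).symm
  exact (Subgroup.mem_centralizer_iff.1 (h1 ha) b hb).symm

theorem gA_elt {s : ℕ} [Fact s.Prime] (hsq : ¬ s ∣ Fintype.card F) (hs1 : ¬ s ∣ Fintype.card F - 1)
    (he : s ∣ Fintype.card F ^ 2 - 1) : ∃ x ∈ gA F, orderOf x = s := by
  have hs := (Fact.out : s.Prime)
  haveI : Finite (GL chevF4.Idx F) := inferInstance
  have h1 := dvd_card_genR F4.ok ckComm_F4 (F := F) (J := [3]) (by decide) hs hsq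
    (fun h => hs1 (hs.dvd_of_dvd_pow (h.trans diag_dvd)))
    (dvd_poin hs Fintype.card_pos hs1 ⟨2, by simp, dvd_rfl⟩ he poin_small.2.1 poin_small.1)
  obtain ⟨x, hx, hxo⟩ := exists_elt _ h1
  have hw : WordOk F4.pk [3, 2, 1, 2, 0, 1, 2] :=
    (by decide : ∀ i ∈ [3, 2, 1, 2, 0, 1, 2], i < F4.pk.rank)
  set n := F4.ok.nW (F := F) [3, 2, 1, 2, 0, 1, 2]
  refine ⟨n * x * n⁻¹, ?_, ?_⟩
  · have h2 : F4.ok.genR (F := F) (InJ F4.pk (↑([3] : List ℕ).toFinset : Set ℕ)) ≤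
        (gA F).comap (MulAut.conj n).toMonoidHom := F4.ok.genR_le fun r hr t => by
      obtain ⟨a, -, ha⟩ := F4.ok.nW_xG (F := F) _ hw r hr.1
      show n * _ * n⁻¹ ∈ gA F
      rw [(ha t).1]
      exact F4.ok.xG_mem_genR (small_roots.1 r hr.1 (inJ_of_InJ hr)) _
    exact h2 hx
  · rw [← hxo]
    exact (MulEquiv.orderOf_eq (MulAut.conj n) x)

theorem gB_elt {s : ℕ} [Fact s.Prime] (hsq : ¬ s ∣ Fintype.card F) (hs1 : ¬ s ∣ Fintype.card F - 1) {e : ℕ}
    (hd : ∃ d ∈ ([2, 4, 6] : List ℕ), e ∣ d) (he : s ∣ Fintype.card F ^ e - 1) :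
    ∃ x ∈ gB F, orderOf x = s := by
  have hs := (Fact.out : s.Prime)
  haveI : Finite (GL chevF4.Idx F) := inferInstance
  exact exists_elt _ (dvd_card_genR F4.ok ckComm_F4 (F := F) (J := [2, 1, 0]) (by decide) hs hsq
    (fun h => hs1 (hs.dvd_of_dvd_pow (h.trans diag_dvd)))
    (dvd_poin hs Fintype.card_pos hs1 hd he poin_small.2.2.2 poin_small.2.2.1))

/-- A torus element of order `s` with given exponents on the simple roots. -/
theorem torus_elt {s : ℕ} [Fact s.Prime] (hs1 : s ∣ Fintype.card F - 1) (f : Fin F4.pk.rank → ℤ)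
    (hf : ∃ k, ((f k : ℤ) : ZMod s) ≠ 0) :
    ∃ c : Fin F4.pk.rank → Fˣ, orderOf (F4.ok.hHom (F := F) c) = s ∧
      ∀ r < F4.pk.nroots, dot F4.pk f r = 0 → hchar F4.pk c r = 1 := by
  classical
  have hs := (Fact.out : s.Prime)
  haveI : NeZero s := ⟨hs.ne_zero⟩
  obtain ⟨ζ, hζ⟩ : ∃ ζ : Fˣ, IsPrimitiveRoot ζ s := by
    obtain ⟨ζ, hζ⟩ := exists_prime_orderOf_dvd_card' (G := Fˣ) s (by
      rwa [Nat.card_eq_fintype_card, Fintype.card_units])
    exact ⟨ζ, hζ ▸ IsPrimitiveRoot.orderOf ζ⟩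
  obtain ⟨Z, hZi, -⟩ := exists_zhom hζ
  obtain ⟨c, hc⟩ := (simChar_bij F4.ok (hinj_F4 (L := F))).2 fun k => Z (Multiplicative.ofAdd ((f k : ℤ) : ZMod s))
  have hdot : ∀ r < F4.pk.nroots, hchar F4.pk c r = (Z (Multiplicative.ofAdd ((dot F4.pk f r : ℤ) : ZMod s)) : F) := by
    intro r hr
    rw [hchar_dot F4.ok Z c (fun k => ((f k : ℤ) : ZMod s)) (fun k => congrFun hc k) hr, dot, dot, Int.cast_sum]
    simp
  refine ⟨c, orderOf_eq_prime ?_ ?_, fun r hr e => by rw [hdot r hr, e]; simp⟩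
  · rw [← map_pow, ← map_one (F4.ok.hHom (F := F))]
    refine hHom_ext_char F4.ok fun r hr => ?_
    have : hchar F4.pk (c ^ s) r = hchar F4.pk c r ^ s := by
      simp only [hchar, ← Finset.prod_pow, Pi.pow_apply, Units.val_pow_eq_pow_val]
      exact Finset.prod_congr rfl fun i _ => by rw [← zpow_natCast, ← zpow_natCast, zpow_comm]
    rw [this, hdot r hr, ← Units.val_pow_eq_pow_val, ← map_pow, ← ofAdd_nsmul]
    simp [hchar]
  · intro e
    obtain ⟨k, hk⟩ := hf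
    refine hk (Multiplicative.ofAdd.injective (hZi ?_))
    have e1 : c = 1 := hinj_F4 (e.trans (map_one _).symm)
    rw [← congrFun hc k, e1]
    simp [simChar]

theorem torus_gB {c : Fin F4.pk.rank → Fˣ} (hc : ∀ r < F4.pk.nroots,
    InJ F4.pk (↑([2, 1, 0] : List ℕ).toFinset : Set ℕ) r → hchar F4.pk c r = 1) {b : GL chevF4.Idx F}
    (hb : b ∈ gB F) : Commute (F4.ok.hHom c) b := by
  have h2 : gB F ≤ Subgroup.centralizer {F4.ok.hHom (F := F) c} := by
    refine F4.ok.genR_le fun r hr u => Subgroup.mem_centralizer_iff.2 fun z hz => ?_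
    rw [Set.mem_singleton_iff.1 hz]
    have e := F4.ok.hHom_xG c hr.1 u
    rw [hc r hr.1 hr, one_mul] at e
    exact mul_inv_eq_iff_eq_mul.1 e
  exact Subgroup.mem_centralizer_iff.1 (h2 hb) _ (Set.mem_singleton _)

theorem exists_order_mul {G : Type*} [Group G] {H : Subgroup G} {a b : G} (ha : a ∈ H) (hb : b ∈ H)
    (hab : Commute a b) {r s : ℕ} (hr : orderOf a = r) (hs : orderOf b = s) (hco : r.Coprime s) :
    ∃ x : ↥H, orderOf x = r * s :=
  ⟨⟨a * b, mul_mem ha hb⟩, by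
    rw [← Subgroup.orderOf_coe, hab.orderOf_mul_eq_mul_orderOf_of_coprime (by rw [hr, hs]; exact hco), hr, hs]⟩

theorem dot_B {k : ℤ} {r : ℕ} (hr : InJ F4.pk (↑([2, 1, 0] : List ℕ).toFinset : Set ℕ) r) :
    dot F4.pk (fun i : Fin F4.pk.rank => if (i : ℕ) = 3 then k else 0) r = 0 := by
  refine Finset.sum_eq_zero fun i _ => ?_
  by_cases hi : (i : ℕ) = 3
  · simp only [if_pos hi]
    rw [hr.2 i i.isLt (by simp [hi]), Int.cast_zero, zero_mul]
  · simp only [if_neg hi, mul_zero]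

/-- An element of order `r s` for small `e`. -/
theorem adj_small {r s : ℕ} [Fact r.Prime] [Fact s.Prime] (hrs : r ≠ s)
    (hrq : ¬ r ∣ Fintype.card F) (hsq : ¬ s ∣ Fintype.card F)
    (hr : r ∣ Fintype.card F ^ 2 - 1) {e : ℕ} (hd : ∃ d ∈ ([2, 4, 6] : List ℕ), e ∣ d)
    (hs : s ∣ Fintype.card F ^ e - 1) : ∃ x : ↥(chevF4.group F), orderOf x = r * s := by
  have hco : r.Coprime s := (Nat.coprime_primes Fact.out Fact.out).2 hrs
  have hT : ∀ c : Fin F4.pk.rank → Fˣ, F4.ok.hHom c ∈ chevF4.group F := fun c =>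
    F4.ok.diagonal_le_group (F4.ok.mem_diagonal_iff.2 ⟨c, rfl⟩)
  have hne : ∀ p : ℕ, [Fact p.Prime] → ∃ k : Fin F4.pk.rank,
      (((if (k : ℕ) = 3 then 1 else 0 : ℤ)) : ZMod p) ≠ 0 := fun p _ =>
    ⟨⟨3, by decide⟩, by simp⟩
  by_cases hr1 : r ∣ Fintype.card F - 1
  · obtain ⟨c, hc, hc1⟩ := torus_elt (F := F) hr1 _ (hne r)
    by_cases hs1 : s ∣ Fintype.card F - 1
    · obtain ⟨c', hc', -⟩ := torus_elt (F := F) hs1 _ (hne s)
      exact exists_order_mul (hT c) (hT c') (by rw [commute_iff_eq, ← map_mul, ← map_mul, mul_comm]) hc hc' hco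
    · obtain ⟨b, hb, hbo⟩ := gB_elt hsq hs1 hd hs
      exact exists_order_mul (hT c) (gB_le hb) (torus_gB (fun x hx hi => hc1 x hx (dot_B hi)) hb) hc hbo hco
  · obtain ⟨a, ha, hao⟩ := gA_elt hrq hr1 hr
    by_cases hs1 : s ∣ Fintype.card F - 1
    · obtain ⟨c, hc, hc1⟩ := torus_elt (F := F) hs1 _ (hne s)
      obtain ⟨a', ha', hao'⟩ := gB_elt hrq hr1 ⟨2, by simp, dvd_rfl⟩ hr
      exact exists_order_mul (gB_le ha') (hT c) (torus_gB (fun x hx hi => hc1 x hx (dot_B hi)) ha').symm hao' hc hco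
    · obtain ⟨b, hb, hbo⟩ := gB_elt hsq hs1 hd hs
      exact exists_order_mul (gA_le ha) (gB_le hb) (commute_gAB ha hb) hao hbo hco

/-- An element of order `2 s` for small `e`. -/
theorem adj_two {s : ℕ} [Fact s.Prime] [CharP F 2] (hsq : ¬ s ∣ Fintype.card F) (hs2 : s ≠ 2) {e : ℕ}
    (hd : ∃ d ∈ ([2, 4, 6] : List ℕ), e ∣ d) (hs : s ∣ Fintype.card F ^ e - 1) :
    ∃ x : ↥(chevF4.group F), orderOf x = 2 * s := by
  have hco : Nat.Coprime 2 s := (Nat.coprime_primes Nat.prime_two Fact.out).2 (Ne.symm hs2)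
  have hu : orderOf (F4.ok.xG 47 (1 : F)) = 2 := by
    refine orderOf_eq_prime ?_ fun e => ?_
    · rw [pow_two, F4.ok.xG_add, CharTwo.add_self_eq_zero, F4.ok.xG_zero]
    · exact one_ne_zero (F4.ok.xG_inj_param (by decide) (e.trans (F4.ok.xG_zero 47).symm))
  have humem : F4.ok.xG 47 (1 : F) ∈ gA F := F4.ok.xG_mem_genR (by simp) _
  by_cases hs1 : s ∣ Fintype.card F - 1
  · obtain ⟨c, hc, hc1⟩ := torus_elt (F := F) hs1 (fun i : Fin F4.pk.rank => [0, 1, 0, -2].getD i 0)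
      ⟨⟨1, by decide⟩, by simp⟩
    refine exists_order_mul (gA_le humem) (F4.ok.diagonal_le_group (F4.ok.mem_diagonal_iff.2 ⟨c, rfl⟩)) ?_ hu hc hco
    have e := F4.ok.hHom_xG c (show 47 < F4.pk.nroots by decide) (1 : F)
    rw [hc1 47 (by decide) (by
      rw [dot]
      show ∑ i : Fin 4, _ = _
      rw [Fin.sum_univ_four]
      simp [small_roots.2.2.2.1, small_roots.2.2.2.2.1, small_roots.2.2.2.2.2.1]), one_mul] at e
    exact (mul_inv_eq_iff_eq_mul.1 e).symm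
  · obtain ⟨b, hb, hbo⟩ := gB_elt hsq hs1 hd hs
    exact exists_order_mul (gA_le humem) (gB_le hb) (commute_gAB humem hb) hu hbo hco

end Cfsg.Agent.Chev.F4Graph
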